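import Cfsg.Agent.Lib.U34.Group

/-!
# Groups of arbitrary order with the prime graph of `U₃(4)`
-/

set_option autoImplicit false

namespace Cfsg.Agent.U34

open scoped Matrix

/-- Transport of `SU` along an isomorphism of fields. -/
theorem su_congr {F F' : Type*} [Field F] [Field F'] (σ : F ≃+* F') (n q : ℕ) :
    Nonempty (↥(Cfsg.SU n F q) ≃* ↥(Cfsg.SU n F' q)) := by
  have hmem : ∀ {K K' : Type _} [Field K] [Field K'] (τ : K ≃+* K') (g : Matrix.SpecialLinearGroup (Fin n) K),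
      g ∈ Cfsg.SU n K q → Matrix.SpecialLinearGroup.map τ.toRingHom g ∈ Cfsg.SU n K' q := by
    intro K K' _ _ τ g hg u v
    obtain ⟨u, rfl⟩ : ∃ u0 : Fin n → K, τ ∘ u0 = u := ⟨τ.symm ∘ u, by ext i; simp⟩
    obtain ⟨v, rfl⟩ : ∃ v0 : Fin n → K, τ ∘ v0 = v := ⟨τ.symm ∘ v, by ext i; simp⟩
    have h : ∀ x : Fin n → K, ((g : Matrix (Fin n) (Fin n) K).map τ) *ᵥ (τ ∘ x) =
        τ ∘ ((g : Matrix (Fin n) (Fin n) K) *ᵥ x) := fun x => by
      funext i
      exact (RingHom.map_mulVec τ.toRingHom (g : Matrix (Fin n) (Fin n) K) x i).symm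
    show Cfsg.hermForm n K' q (((g : Matrix (Fin n) (Fin n) K).map τ) *ᵥ _) _ = _
    have e : ∀ x y : Fin n → K, Cfsg.hermForm n K' q (τ ∘ x) (τ ∘ y) = τ (Cfsg.hermForm n K q x y) := fun x y => by
      simp [Cfsg.hermForm, map_sum]
    show Cfsg.hermForm n K' q _ (((g : Matrix (Fin n) (Fin n) K).map τ) *ᵥ _) = _
    rw [h, h, e, e]
    exact congrArg τ (hg u v)
  refine ⟨{ toFun := fun g => ⟨Matrix.SpecialLinearGroup.map σ.toRingHom g.1, hmem σ g.1 g.2⟩
            invFun := fun g => ⟨Matrix.SpecialLinearGroup.map σ.symm.toRingHom g.1, ?_⟩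
            left_inv := fun g => ?_
            right_inv := fun g => ?_
            map_mul' := fun a b => ?_ }⟩
  · intro u v
    obtain ⟨u, rfl⟩ : ∃ u0 : Fin n → F', σ.symm ∘ u0 = u := ⟨σ ∘ u, by ext i; simp⟩
    obtain ⟨v, rfl⟩ : ∃ v0 : Fin n → F', σ.symm ∘ v0 = v := ⟨σ ∘ v, by ext i; simp⟩
    have h : ∀ x : Fin n → F', ((g.1 : Matrix (Fin n) (Fin n) F').map σ.symm) *ᵥ (σ.symm ∘ x) =
        σ.symm ∘ ((g.1 : Matrix (Fin n) (Fin n) F') *ᵥ x) := fun x => by
      funext i
      exact (RingHom.map_mulVec σ.symm.toRingHom (g.1 : Matrix (Fin n) (Fin n) F') x i).symm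
    show Cfsg.hermForm n F q (((g.1 : Matrix (Fin n) (Fin n) F').map σ.symm) *ᵥ _) _ = _
    have e : ∀ x y : Fin n → F', Cfsg.hermForm n F q (σ.symm ∘ x) (σ.symm ∘ y) = σ.symm (Cfsg.hermForm n F' q x y) :=
      fun x y => by simp [Cfsg.hermForm, map_sum]
    show Cfsg.hermForm n F q _ (((g.1 : Matrix (Fin n) (Fin n) F').map σ.symm) *ᵥ _) = _
    rw [h, h, e, e]
    exact congrArg σ.symm (g.2 u v)
  · apply Subtype.ext; apply Subtype.ext; ext i j; exact σ.symm_apply_apply _
  · apply Subtype.ext; apply Subtype.ext; ext i j; exact σ.apply_symm_apply _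
  · exact Subtype.ext (map_mul _ _ _)

theorem psu_equiv {F : Type*} [Field F] [Fintype F] (hF : Fintype.card F = 16) :
    Nonempty (Cfsg.PSU 3 F 4 ≃* ↥(Cfsg.SU 3 K16 4)) := by
  classical
  have hF' : Fintype.card F = 4 ^ 2 := by rw [hF]; norm_num
  have hc : Subgroup.center ↥(Cfsg.SU 3 F 4) = ⊥ :=
    Subgroup.eq_bot_of_card_eq _ (by rw [Cfsg.Agent.UnitaryOrder.card_center_SU hF' 3 (by omega)]; norm_num)
  obtain ⟨e⟩ := su_congr (FiniteField.ringEquivOfCardEq (K := F) (K' := K16) (by rw [hF, card_K16])) 3 4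
  exact ⟨((QuotientGroup.quotientMulEquivOfEq hc).trans QuotientGroup.quotientBot).trans e⟩

/-- The group `SU₃(4)`. -/
abbrev G0 := ↥(Cfsg.SU 3 K16 4)

theorem thirteen_ne : (13 : ZMod 5) ≠ 0 := by decide

/-- An element of order thirteen fixes no nonzero vector. -/
theorem fixed_zero {g : G0} (hg : orderOf g = 13) {v : Fin 12 → ZMod 5} (hv : rho g *ᵥ v = v) : v = 0 := by
  obtain ⟨c, hc, hsum⟩ := exists_thirteen
  have : Fact (Nat.Prime 13) := ⟨by norm_num⟩
  have : Fact (Nat.Prime 5) := ⟨by norm_num⟩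
  have hf : (Nat.card G0).factorization 13 = 1 := by
    rw [card_G, show (62400 : ℕ) = 13 ^ 1 * 4800 by norm_num, Nat.factorization_mul (by norm_num) (by norm_num),
      Finsupp.add_apply, Nat.Prime.factorization_pow (by norm_num), Finsupp.single_eq_same,
      Nat.factorization_eq_zero_of_not_dvd (by norm_num)]
  have hcard : ∀ x : G0, orderOf x = 13 → Nat.card (Subgroup.zpowers x) = 13 ^ (Nat.card G0).factorization 13 := by
    intro x hx; rw [Nat.card_zpowers, hx, hf, pow_one]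
  obtain ⟨a, ha⟩ := MulAction.exists_smul_eq G0 (Sylow.ofCard _ (hcard g hg)) (Sylow.ofCard _ (hcard c hc))
  have hmem : c ∈ ((a • Sylow.ofCard _ (hcard g hg) : Sylow 13 G0) : Subgroup G0) := by
    rw [ha]; exact Subgroup.mem_zpowers c
  rw [Sylow.coe_subgroup_smul, Subgroup.mem_pointwise_smul_iff_inv_smul_mem] at hmem
  obtain ⟨m, hm⟩ := mem_powers_iff_mem_zpowers.2 hmem
  have hc' : c = a * g ^ m * a⁻¹ := by
    simp only at hm
    rw [hm]
    simp [MulAut.smul_def]
    group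
  have hpow : ∀ k : ℕ, rho g ^ k *ᵥ v = v := by
    intro k
    induction k with
    | zero => rw [pow_zero, Matrix.one_mulVec]
    | succ k ih => rw [pow_succ, ← Matrix.mulVec_mulVec, hv, ih]
  set w := rho a *ᵥ v with hw
  have hcw : ∀ k : ℕ, rho c ^ k *ᵥ w = w := by
    have h1 : rho c *ᵥ w = w := by
      rw [hc', hw, map_mul, map_mul, map_pow, Matrix.mulVec_mulVec, mul_assoc, ← map_mul rho a⁻¹ a, inv_mul_cancel,
        map_one, mul_one, ← Matrix.mulVec_mulVec, hpow]
    intro k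
    induction k with
    | zero => rw [pow_zero, Matrix.one_mulVec]
    | succ k ih => rw [pow_succ, ← Matrix.mulVec_mulVec, h1, ih]
  have h0 : (13 : ZMod 5) • w = 0 := by
    have := congrArg (· *ᵥ w) hsum
    simp only [Matrix.sum_mulVec, hcw, Matrix.zero_mulVec, Finset.sum_const, Finset.card_range] at this
    rw [← this]
    norm_num [← Nat.cast_smul_eq_nsmul (ZMod 5)]
  have hw0 : w = 0 := by
    rcases smul_eq_zero.1 h0 with h | h
    · exact absurd h thirteen_ne
    · exact h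
  have := congrArg (rho a⁻¹ *ᵥ ·) hw0
  simpa [hw, Matrix.mulVec_mulVec, ← map_mul] using this

/-- The sum of several copies of the module. -/
abbrev Mod (k : ℕ) := Multiplicative (Fin k → Fin 12 → ZMod 5)

/-- The action on the sum of several copies. -/
noncomputable def act (k : ℕ) : G0 →* MulAut (Mod k) where
  toFun g :=
    { toFun := fun f => Multiplicative.ofAdd fun i => rho g *ᵥ f.toAdd i
      invFun := fun f => Multiplicative.ofAdd fun i => rho g⁻¹ *ᵥ f.toAdd i
      left_inv := fun f => Multiplicative.toAdd.injective <| funext fun i => by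
        show rho g⁻¹ *ᵥ (rho g *ᵥ f.toAdd i) = f.toAdd i
        rw [Matrix.mulVec_mulVec, ← map_mul, inv_mul_cancel, map_one, Matrix.one_mulVec]
      right_inv := fun f => Multiplicative.toAdd.injective <| funext fun i => by
        show rho g *ᵥ (rho g⁻¹ *ᵥ f.toAdd i) = f.toAdd i
        rw [Matrix.mulVec_mulVec, ← map_mul, mul_inv_cancel, map_one, Matrix.one_mulVec]
      map_mul' := fun a b => Multiplicative.toAdd.injective <| funext fun i => by
        show rho g *ᵥ (a.toAdd i + b.toAdd i) = rho g *ᵥ a.toAdd i + rho g *ᵥ b.toAdd i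
        exact Matrix.mulVec_add (rho g) (a.toAdd i) (b.toAdd i) }
  map_one' := MulEquiv.ext fun f => Multiplicative.toAdd.injective <| funext fun i => by
    show rho 1 *ᵥ f.toAdd i = f.toAdd i
    rw [map_one, Matrix.one_mulVec]
  map_mul' a b := MulEquiv.ext fun f => Multiplicative.toAdd.injective <| funext fun i => by
    show rho (a * b) *ᵥ f.toAdd i = rho a *ᵥ (rho b *ᵥ f.toAdd i)
    rw [map_mul, Matrix.mulVec_mulVec]

/-- The extension by several copies of the module. -/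
abbrev Ext (k : ℕ) := SemidirectProduct (Mod k) G0 (act k)

theorem card_ext (k : ℕ) : Nat.card (Ext k) = 5 ^ (12 * k) * 62400 := by
  have : Nat.card (Mod k) = 5 ^ (12 * k) := by
    rw [Nat.card_congr Multiplicative.toAdd, Nat.card_fun, Nat.card_fun, Nat.card_zmod, Nat.card_fin, Nat.card_fin,
      ← pow_mul]
  rw [SemidirectProduct.card, this, card_G]

theorem mod_pow_five {k : ℕ} (v : Mod k) : v ^ 5 = 1 :=
  Multiplicative.toAdd.injective <| funext fun i => funext fun j => by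
    rw [toAdd_pow, Pi.smul_apply, Pi.smul_apply, toAdd_one, Pi.zero_apply, Pi.zero_apply, nsmul_eq_mul,
      show ((5 : ℕ) : ZMod 5) = 0 from rfl, zero_mul]

theorem graph_eq (k : ℕ) {p q : ℕ} (hp : p.Prime) (hq : q.Prime) (hpq : p ≠ q) :
    (∃ g : G0, orderOf g = p * q) ↔ ∃ g : Ext k, orderOf g = p * q := by
  refine ⟨fun ⟨g, hg⟩ => ⟨SemidirectProduct.inr g, ?_⟩, ?_⟩
  · rw [orderOf_injective _ SemidirectProduct.inr_injective, hg]
  rintro ⟨x, hx⟩
  set g : G0 := SemidirectProduct.rightHom x with hgdef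
  set d := orderOf g with hd
  have hd1 : d ∣ p * q := hx ▸ orderOf_map_dvd _ x
  have hd2 : p * q ∣ d * 5 := by
    rw [← hx]
    apply orderOf_dvd_of_pow_eq_one
    have hr : SemidirectProduct.rightHom (x ^ d) = 1 := by rw [map_pow, ← hgdef, hd, pow_orderOf_eq_one]
    obtain ⟨v, hv⟩ : x ^ d ∈ (SemidirectProduct.inl : Mod k →* Ext k).range := by
      rw [SemidirectProduct.range_inl_eq_ker_rightHom]; exact hr
    rw [pow_mul, ← hv, ← map_pow, mod_pow_five, map_one]
  have hcop : Nat.Coprime p q := (Nat.coprime_primes hp hq).2 hpq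
  -- a prime other than five divides the order of the image
  have key : ∀ r, r.Prime → r ∣ p * q → r ≠ 5 → r ∣ d := fun r hr hdvd h5 =>
    (hr.dvd_mul.1 (hdvd.trans hd2)).resolve_right fun h => h5 ((Nat.prime_dvd_prime_iff_eq hr (by norm_num)).1 h)
  by_cases h5 : p ≠ 5 ∧ q ≠ 5
  · exact ⟨g, Nat.dvd_antisymm hd1 (hcop.mul_dvd_of_dvd_of_dvd (key p hp (dvd_mul_right _ _) h5.1)
      (key q hq (dvd_mul_left _ _) h5.2))⟩
  obtain ⟨r, hr, hr5, hprod⟩ : ∃ r : ℕ, r.Prime ∧ r ≠ 5 ∧ p * q = 5 * r := by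
    rcases not_and_or.1 h5 with h | h
    · push Not at h
      exact ⟨q, hq, fun e => hpq (h.trans e.symm), by rw [h]⟩
    · push Not at h
      exact ⟨p, hp, fun e => hpq (e.trans h.symm), by rw [h, mul_comm]⟩
  rw [hprod]
  rw [hprod] at hd1 hx
  have hrd : r ∣ d := key r hr (hprod ▸ dvd_mul_left r 5) hr5
  have hrG : r ∣ 5 ^ 2 * (2 ^ 6 * 3 * 13) := by
    have : d ∣ Nat.card G0 := orderOf_dvd_natCard g
    rw [card_G] at this
    exact hrd.trans (this.trans (dvd_of_eq (by norm_num)))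
  obtain ⟨⟨g10, h10⟩, ⟨g15, h15⟩⟩ := exists_ten_fifteen
  have hr13 : r = 2 ∨ r = 3 ∨ r = 13 := by
    rcases hr.dvd_mul.1 hrG with h | h
    · exact absurd ((Nat.prime_dvd_prime_iff_eq hr (by norm_num)).1 (hr.dvd_of_dvd_pow h)) hr5
    rcases hr.dvd_mul.1 h with h | h
    · rcases hr.dvd_mul.1 h with h | h
      · exact Or.inl ((Nat.prime_dvd_prime_iff_eq hr (by norm_num)).1 (hr.dvd_of_dvd_pow h))
      · exact Or.inr (Or.inl ((Nat.prime_dvd_prime_iff_eq hr (by norm_num)).1 h))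
    · exact Or.inr (Or.inr ((Nat.prime_dvd_prime_iff_eq hr (by norm_num)).1 h))
  rcases hr13 with rfl | rfl | rfl
  · exact ⟨g10, h10⟩
  · exact ⟨g15, h15⟩
  -- the remaining pair
  obtain ⟨e, he⟩ := hrd
  have hle : d ∣ 65 := hd1
  have hcase : d = 13 ∨ d = 65 := by
    rw [he] at hle ⊢
    have h5 : e ∣ 5 := (Nat.mul_dvd_mul_iff_left (by norm_num : 0 < 13)).1 hle
    rcases (Nat.dvd_prime (by norm_num)).1 h5 with rfl | rfl <;> simp
  rcases hcase with h13 | h65
  swap
  · exact ⟨g, h65⟩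
  exfalso
  obtain ⟨v, hv⟩ : x ^ 13 ∈ (SemidirectProduct.inl : Mod k →* Ext k).range := by
    rw [SemidirectProduct.range_inl_eq_ker_rightHom, MonoidHom.mem_ker, map_pow, ← hgdef, ← h13, hd,
      pow_orderOf_eq_one]
  have hcomm : x * x ^ 13 = x ^ 13 * x := (Commute.self_pow x 13).eq
  rw [← hv] at hcomm
  have h1 := congrArg SemidirectProduct.left hcomm
  simp only [SemidirectProduct.mul_left, SemidirectProduct.left_inl, SemidirectProduct.right_inl, map_one,
    MulAut.one_apply] at h1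
  rw [mul_comm v] at h1
  have h2 : act k x.right v = v := mul_left_cancel h1
  have hg' : orderOf x.right = 13 := h13
  have hv0 : v = 1 := Multiplicative.toAdd.injective <| funext fun i => fixed_zero hg'
    (congrFun (congrArg Multiplicative.toAdd h2) i)
  rw [hv0, map_one] at hv
  have := orderOf_dvd_of_pow_eq_one hv.symm
  rw [hx] at this
  norm_num at this

theorem graph_unbounded {F : Type*} [Field F] [Fintype F] (hF : Fintype.card F = 16) (N : ℕ) :
    ∃ (H : Type) (_ : Group H) (_ : Finite H), N < Nat.card H ∧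
      ((∀ p : ℕ, p.Prime → (p ∣ Nat.card (Cfsg.PSU 3 F 4) ↔ p ∣ Nat.card H)) ∧
      (∀ p q : ℕ, p.Prime → q.Prime → p ≠ q →
        ((∃ g : (Cfsg.PSU 3 F 4), orderOf g = p * q) ↔ (∃ g : H, orderOf g = p * q)))) := by
  obtain ⟨e⟩ := psu_equiv hF
  have hc := card_ext (N + 1)
  have : Finite (Ext (N + 1)) := Nat.finite_of_card_ne_zero (by rw [hc]; positivity)
  refine ⟨Ext (N + 1), inferInstance, inferInstance, ?_, ?_, fun p q hp hq hpq => ?_⟩
  · rw [hc]
    have h1 : N < 5 ^ (12 * (N + 1)) := by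
      have := Nat.lt_pow_self (n := 12 * (N + 1)) (by norm_num : 1 < 5)
      omega
    nlinarith
  · intro p hp
    rw [hc, Nat.card_congr e.toEquiv, card_G]
    refine ⟨fun h => h.mul_left _, fun h => ?_⟩
    rcases hp.dvd_mul.1 h with h | h
    · rw [(Nat.prime_dvd_prime_iff_eq hp (by norm_num)).1 (hp.dvd_of_dvd_pow h)]
      norm_num
    · exact h
  · rw [← graph_eq (N + 1) hp hq hpq]
    exact ⟨fun ⟨g, hg⟩ => ⟨e g, by rw [e.orderOf_eq, hg]⟩, fun ⟨g, hg⟩ => ⟨e.symm g, by rw [e.symm.orderOf_eq, hg]⟩⟩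

end Cfsg.Agent.U34
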