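import Cfsg.Agent.Lib.U34.Data

/-!
# Checks on the three-dimensional matrices and on one element of order thirteen
-/

set_option autoImplicit false
set_option maxRecDepth 10000

namespace Cfsg.Agent.U34

/-- The fourth power. -/
def fourK (a : ℕ) : ℕ := mulK (mulK a a) (mulK a a)

/-- The unitarity and determinant test. -/
def isUnitary (A : List (List ℕ)) : Bool :=
  ((List.range 3).all fun i => (List.range 3).all fun j =>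
    foldTo addK 3 (fun k => mulK (ent A k i) (fourK (ent A k j))) == if i = j then 1 else 0) &&
  addK (addK (mulK (ent A 0 0) (addK (mulK (ent A 1 1) (ent A 2 2)) (mulK (ent A 1 2) (ent A 2 1))))
    (mulK (ent A 0 1) (addK (mulK (ent A 1 0) (ent A 2 2)) (mulK (ent A 1 2) (ent A 2 0)))))
    (mulK (ent A 0 2) (addK (mulK (ent A 1 0) (ent A 2 1)) (mulK (ent A 1 1) (ent A 2 0)))) == 1

theorem check_gens : (isUnitary (uP 1).1 && isUnitary (uP 2).1 && isUnitary (uP 3).1 && isUnitary (uP 4).1 &&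
    isUnitary (tP 1).1 && isUnitary wP.1) = true := by decide +kernel

/-- The image of the first frame vector. -/
def vecE (A : List (List ℕ)) : List ℕ := (List.range 3).map fun i => addK (ent A i 0) (ent A i 1)

/-- The coset representatives of the point stabiliser. -/
def repG (k : ℕ) : List (List ℕ) := if k = 0 then oneP.1 else mulG (uP (k - 1)).1 wP.1

/-- Two vectors are proportional. -/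
def propVec (v w : List ℕ) : Bool :=
  (List.range 3).all fun i => (List.range 3).all fun j => mulK (v.getD i 0) (w.getD j 0) == mulK (v.getD j 0) (w.getD i 0)

theorem check_cosets : ((List.range 65).all fun k => (List.range k).all fun l =>
    !propVec (vecE (repG k)) (vecE (repG l))) = true := by decide +kernel

theorem check_fix : ((List.range 64).all fun e => vecE (uP e).1 == [1, 1, 0]) = true := by decide +kernel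

theorem check_scal : ((List.range 15).all fun i => vecE (tP i).1 ==
    [(vecE (tP i).1).getD 0 0, (vecE (tP i).1).getD 0 0, 0] && (List.range i).all fun j =>
      (vecE (tP i).1).getD 0 0 != (vecE (tP j).1).getD 0 0) = true := by decide +kernel

theorem check_nodup : ((List.range 64).all fun e => (List.range e).all fun f => (uP e).1 != (uP f).1) = true := by
  decide +kernel

/-- An element of order thirteen. -/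
def cP : Raw := mulP (mulP (uP 1) (tP 2)) wP

/-- An element of order ten. -/
def dG : List (List ℕ) := mulG (uP 1).1 (tP 3).1

/-- Powers of a pair. -/
def powP (a : Raw) : ℕ → Raw
  | 0 => oneP
  | n + 1 => mulP (powP a n) a

/-- Powers of a matrix over sixteen elements. -/
def powG (a : List (List ℕ)) : ℕ → List (List ℕ)
  | 0 => oneP.1
  | n + 1 => mulG (powG a n) a

theorem check_ten : (powG dG 10 == oneP.1 && powG dG 5 != oneP.1 && powG dG 2 != oneP.1 &&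
    powG (tP 1).1 5 != oneP.1 && powG (tP 1).1 3 != oneP.1) = true := by decide +kernel

/-- The literal powers of the element of order thirteen. -/
def cPowList : List (List (List ℕ)) := [
  [[1,0,0,0,0,0,0,0,0,0,0,0],[0,1,0,0,0,0,0,0,0,0,0,0],[0,0,1,0,0,0,0,0,0,0,0,0],[0,0,0,1,0,0,0,0,0,0,0,0],[0,0,0,0,1,0,0,0,0,0,0,0],[0,0,0,0,0,1,0,0,0,0,0,0],[0,0,0,0,0,0,1,0,0,0,0,0],[0,0,0,0,0,0,0,1,0,0,0,0],[0,0,0,0,0,0,0,0,1,0,0,0],[0,0,0,0,0,0,0,0,0,1,0,0],[0,0,0,0,0,0,0,0,0,0,1,0],[0,0,0,0,0,0,0,0,0,0,0,1]],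
  [[3,4,2,1,4,0,4,1,4,0,1,1],[2,0,3,0,1,0,1,3,2,1,3,2],[0,1,3,2,2,0,2,3,1,1,3,1],[2,1,3,0,2,0,0,3,4,0,0,1],[2,0,1,2,1,1,3,4,2,0,1,2],[0,0,0,4,2,1,0,3,3,0,2,4],[4,3,3,4,0,0,0,0,1,2,3,4],[2,0,3,1,3,2,0,4,0,2,4,1],[3,1,4,2,4,4,1,1,2,2,2,0],[3,2,2,3,4,3,0,2,4,2,1,1],[4,1,2,4,1,3,4,3,2,2,3,2],[1,3,0,3,0,1,1,1,1,4,0,0]],
  [[2,0,4,2,1,1,1,2,4,0,2,1],[1,2,2,2,4,4,3,2,0,1,1,1],[3,0,2,1,3,0,2,1,2,3,4,4],[1,3,3,1,2,0,1,4,1,2,1,4],[4,4,0,0,3,3,1,1,3,4,0,4],[4,1,4,2,0,1,1,3,2,2,3,4],[1,3,2,2,3,3,2,2,1,4,0,0],[0,3,3,1,2,2,0,0,4,2,3,4],[4,4,3,3,3,0,3,3,3,1,4,1],[4,4,4,0,0,2,4,4,1,1,1,3],[2,4,4,4,4,0,0,2,1,4,4,3],[1,4,3,4,3,4,3,0,4,2,0,3]],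
  [[1,1,2,1,2,4,2,1,4,1,2,4],[3,3,3,3,2,4,2,1,3,2,1,0],[2,0,4,3,3,3,2,2,4,2,1,2],[4,4,0,3,2,2,3,3,3,0,2,2],[2,2,4,2,0,1,1,1,1,3,2,4],[1,1,4,2,4,4,3,4,1,3,1,1],[1,3,0,2,0,1,1,0,0,3,0,3],[1,2,4,1,4,4,0,1,4,0,3,0],[4,3,1,4,4,2,0,1,2,4,3,3],[2,0,4,3,3,3,1,4,4,2,1,2],[3,3,0,4,2,4,2,1,3,2,1,0],[3,2,2,4,2,2,0,4,1,2,2,2]],
  [[3,3,2,0,1,2,1,3,0,4,0,0],[4,2,2,4,1,4,4,4,2,4,2,3],[4,1,2,2,2,2,0,0,1,4,0,1],[2,4,0,1,0,0,4,2,1,4,0,1],[4,3,3,0,0,1,1,0,0,3,0,3],[4,0,0,2,3,3,1,2,3,3,1,4],[4,4,1,2,0,3,0,3,2,3,3,0],[3,1,2,4,0,0,2,2,0,2,2,1],[4,3,1,0,2,0,0,1,2,1,0,2],[4,3,0,0,3,1,0,3,0,1,0,4],[1,0,1,3,2,4,3,3,3,1,3,1],[2,1,1,0,3,0,0,0,0,0,2,0]],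
  [[4,0,2,1,4,1,2,3,0,1,2,2],[4,0,2,4,2,2,3,4,3,3,2,0],[3,2,2,2,1,1,4,3,2,2,0,1],[2,3,4,2,0,1,4,0,3,0,0,3],[4,2,0,1,4,3,3,4,4,1,0,4],[1,3,1,4,0,3,1,0,4,1,1,0],[2,0,3,1,4,0,1,3,4,2,3,4],[1,3,2,4,1,2,1,3,2,3,4,2],[0,2,0,4,3,2,1,4,2,0,2,2],[2,0,1,2,2,2,2,1,4,2,1,4],[1,3,4,2,0,2,3,0,3,1,1,2],[2,1,2,3,1,4,3,1,1,1,2,0]],
  [[4,0,2,3,3,2,2,4,0,1,1,0],[0,2,1,4,2,4,2,2,4,2,1,0],[4,2,3,0,0,3,4,2,3,0,3,3],[4,3,0,0,2,1,0,3,2,3,3,4],[0,4,0,3,2,3,3,4,0,2,4,1],[0,4,4,4,4,0,2,3,1,3,4,1],[0,3,3,1,1,0,1,3,0,0,4,4],[2,1,4,2,2,0,4,2,3,4,0,1],[1,2,3,0,4,4,3,2,3,3,2,4],[0,3,1,0,3,0,3,4,1,2,4,0],[3,1,4,3,0,2,4,4,0,1,0,1],[4,2,0,0,1,0,0,4,1,4,2,0]],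
  [[2,0,3,1,0,4,3,3,0,3,3,3],[0,0,2,0,3,0,3,0,2,0,1,3],[0,1,4,2,1,1,2,1,1,1,0,2],[4,4,3,2,0,4,3,2,0,1,0,0],[1,3,1,2,2,2,2,1,3,4,4,3],[2,3,3,2,3,1,2,4,1,3,3,1],[0,3,2,3,0,3,2,3,3,3,1,2],[3,0,0,3,2,1,2,1,3,0,4,1],[1,4,3,0,1,3,4,1,0,2,0,3],[2,4,2,3,1,3,1,2,4,2,1,4],[0,1,1,0,2,4,2,2,0,2,1,1],[4,2,3,2,3,1,0,0,4,4,4,2]],
  [[0,4,1,4,3,1,4,1,1,4,2,1],[1,3,3,4,1,2,2,1,0,1,0,2],[1,1,2,4,2,3,0,2,4,3,1,4],[3,2,2,3,3,1,1,3,4,4,1,3],[2,2,4,2,4,0,2,3,4,4,1,3],[3,2,0,1,2,0,0,4,2,1,1,4],[0,2,4,2,3,0,1,4,3,2,1,4],[0,1,1,0,1,0,3,3,3,4,0,1],[0,2,3,3,2,0,0,1,1,3,2,0],[1,2,3,1,0,2,1,0,4,2,1,4],[4,0,1,0,3,0,4,2,2,0,0,2],[3,3,4,2,4,1,0,1,4,2,3,0]],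
  [[4,1,1,4,4,4,0,2,1,3,3,3],[4,0,4,0,3,0,3,4,0,2,0,4],[0,3,0,1,0,1,2,4,3,4,0,2],[1,2,3,2,1,4,3,4,4,2,0,0],[2,2,3,2,3,4,1,2,3,1,2,2],[4,0,1,4,3,3,0,2,3,4,0,4],[4,4,0,0,0,1,0,1,3,4,1,3],[4,4,0,0,1,2,0,4,1,2,3,4],[1,0,3,0,2,3,3,4,1,4,2,2],[4,2,0,4,3,1,4,0,4,2,1,0],[1,2,0,0,0,2,1,1,3,0,4,4],[4,4,1,0,3,3,1,0,3,2,3,1]],
  [[1,0,2,4,4,2,2,2,3,2,4,1],[3,0,3,2,2,1,2,2,1,3,1,2],[2,4,0,0,2,0,3,4,4,2,3,2],[1,1,0,0,1,0,4,2,2,1,0,1],[0,4,0,4,0,4,3,3,3,1,2,4],[0,4,2,1,4,3,4,3,4,0,4,3],[0,2,0,0,4,3,0,0,4,4,0,3],[0,1,2,0,2,4,0,0,2,0,0,4],[2,3,0,2,2,2,2,0,2,4,0,4],[3,1,3,3,1,4,0,3,2,4,0,2],[2,1,4,3,4,2,4,1,3,1,1,1],[3,3,1,0,4,4,2,2,2,2,3,3]],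
  [[3,0,0,2,4,1,0,4,1,2,4,3],[2,2,2,3,4,0,1,4,0,4,3,1],[0,4,0,4,3,3,1,2,2,4,0,3],[2,3,4,1,4,2,1,1,1,3,0,4],[3,2,0,0,2,0,4,3,2,4,4,3],[1,2,0,1,4,4,3,2,4,3,2,3],[4,1,4,4,4,3,1,1,3,0,3,3],[1,1,4,0,3,3,2,0,3,3,3,4],[0,3,3,0,0,3,3,0,3,0,1,4],[0,4,3,2,2,3,1,4,0,0,4,1],[2,1,3,4,1,2,2,1,2,4,1,2],[2,2,2,0,4,3,1,4,2,3,1,2]],
  [[2,2,4,2,0,3,4,4,2,4,1,1],[1,0,3,4,0,4,4,3,3,2,0,2],[1,1,2,4,1,3,3,1,3,4,0,0],[4,0,3,4,3,0,1,3,0,0,3,2],[1,2,4,2,3,3,1,4,0,3,0,2],[0,0,1,3,1,1,3,0,2,2,3,1],[0,2,3,4,1,3,0,0,1,3,1,0],[3,3,0,4,4,0,1,4,0,3,4,2],[0,3,1,2,3,2,0,2,3,1,2,0],[0,0,2,4,3,1,3,3,2,4,0,0],[2,3,1,3,1,0,1,0,3,2,0,1],[1,3,1,2,2,2,4,3,2,4,3,1]]]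

/-- A literal power. -/
def cPow (n : ℕ) : List (List ℕ) := cPowList.getD n []

theorem check_cpow : (cPow 0 == oneP.2 && (List.range 12).all fun n => mulR (cPow n) cP.2 == cPow (n + 1)) = true := by
  decide +kernel

theorem check_fpf : ((List.range 12).all fun i => (List.range 12).all fun j =>
    foldTo (· + ·) 13 (fun n => ent (cPow n) i j) % 5 == 0) = true := by decide +kernel

theorem check_cord : (powG cP.1 13 == oneP.1 && cP.1 != oneP.1) = true := by decide +kernel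

end Cfsg.Agent.U34
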