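import Cfsg.Agent.Lib.U34.Data

/-!
# The unipotent and torus pairs multiply as tabulated
-/

set_option autoImplicit false
set_option maxRecDepth 10000

namespace Cfsg.Agent.U34

theorem check_utab_0 : ((List.range' 0 16).all fun e => (List.range 4).all fun j =>
    mulP (uP e) (uP (j + 1)) == uP (utab e j) && utab e j < 64) = true := by decide +kernel

theorem check_utab_1 : ((List.range' 16 16).all fun e => (List.range 4).all fun j =>
    mulP (uP e) (uP (j + 1)) == uP (utab e j) && utab e j < 64) = true := by decide +kernel

theorem check_utab_2 : ((List.range' 32 16).all fun e => (List.range 4).all fun j =>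
    mulP (uP e) (uP (j + 1)) == uP (utab e j) && utab e j < 64) = true := by decide +kernel

theorem check_utab_3 : ((List.range' 48 16).all fun e => (List.range 4).all fun j =>
    mulP (uP e) (uP (j + 1)) == uP (utab e j) && utab e j < 64) = true := by decide +kernel

theorem check_par : ((List.range' 1 63).all fun e =>
    par e < e && parGen e < 4 && utab (par e) (parGen e) == e) = true := by decide +kernel

theorem check_tor : ((List.range 4).all fun j =>
    mulP (tP 1) (uP (j + 1)) == mulP (uP (txList.getD j 0)) (tP 1) && txList.getD j 0 < 64) = true := by
  decide +kernel

theorem check_tpow : ((List.range 15).all fun i => mulP (tP i) (tP 1) == tP ((i + 1) % 15)) = true := by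
  decide +kernel

theorem check_one : (uP 0 == oneP && tP 0 == oneP) = true := by decide +kernel

theorem check_wt : (mulP wP (tP 1) == mulP (tP 11) wP && mulP wP wP == oneP) = true := by decide +kernel

end Cfsg.Agent.U34
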