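import Cfsg.Agent.Lib.U34.Data

/-!
# The products through the Weyl pair are as tabulated
-/

set_option autoImplicit false
set_option maxRecDepth 10000

namespace Cfsg.Agent.U34

/-- One product through the Weyl pair. -/
def wuOk (e : ℕ) : Bool :=
  mulP (mulP wP (uP e)) wP == mulP (mulP (mulP (uP (wu e 0)) (tP (wu e 1))) wP) (uP (wu e 2)) &&
    wu e 0 < 64 && wu e 2 < 64

theorem check_wu_0 : ((List.range' 1 16).all wuOk) = true := by decide +kernel
theorem check_wu_1 : ((List.range' 17 16).all wuOk) = true := by decide +kernel
theorem check_wu_2 : ((List.range' 33 16).all wuOk) = true := by decide +kernel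
theorem check_wu_3 : ((List.range' 49 15).all wuOk) = true := by decide +kernel

end Cfsg.Agent.U34
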