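import Cfsg.Agent.Lib.U34.Ops

/-!
# Matrices for the twelve-dimensional module of `U₃(4)` modulo five
-/

set_option autoImplicit false

namespace Cfsg.Agent.U34

/-- The unipotent pairs. -/
def uList : List Raw := [
  ([[1,0,0], [0,1,0], [0,0,1]],
    [[1,0,0,0,0,0,0,0,0,0,0,0], [0,1,0,0,0,0,0,0,0,0,0,0], [0,0,1,0,0,0,0,0,0,0,0,0], [0,0,0,1,0,0,0,0,0,0,0,0], [0,0,0,0,1,0,0,0,0,0,0,0], [0,0,0,0,0,1,0,0,0,0,0,0], [0,0,0,0,0,0,1,0,0,0,0,0], [0,0,0,0,0,0,0,1,0,0,0,0], [0,0,0,0,0,0,0,0,1,0,0,0], [0,0,0,0,0,0,0,0,0,1,0,0], [0,0,0,0,0,0,0,0,0,0,1,0], [0,0,0,0,0,0,0,0,0,0,0,1]]),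
  ([[3,2,1], [2,3,1], [1,1,1]],
    [[3,2,3,0,2,1,3,3,0,3,2,0], [1,0,1,4,3,1,1,2,1,1,4,4], [0,0,4,0,0,0,2,0,1,0,0,0], [4,0,0,3,2,0,3,2,1,3,1,4], [1,1,4,4,2,1,1,4,3,4,4,4], [0,1,3,1,4,0,4,1,1,4,1,1], [0,0,3,0,0,0,0,0,4,0,0,0], [3,0,1,4,2,0,1,2,3,3,0,4], [0,0,3,0,0,0,2,0,2,0,0,0], [3,0,1,4,2,0,1,1,3,4,0,4], [4,3,3,2,4,4,3,2,4,3,1,2], [2,3,3,0,3,0,1,2,1,3,3,4]]),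
  ([[11,10,3], [10,11,3], [2,2,1]],
    [[2,2,3,2,3,0,2,3,0,4,2,2], [2,1,3,2,2,3,2,1,4,3,3,4], [1,3,2,4,0,4,1,4,2,0,1,4], [4,3,0,0,0,0,0,0,2,3,2,1], [3,0,2,2,1,3,1,2,1,2,2,0], [3,2,4,0,2,3,3,1,1,1,0,0], [2,2,0,2,3,1,1,4,0,1,0,2], [3,0,3,1,3,0,3,4,2,4,1,1], [1,3,0,4,0,4,1,3,4,1,1,4], [3,0,3,1,3,0,3,1,2,2,1,1], [1,3,3,2,4,0,4,3,3,4,3,2], [0,2,2,2,1,3,0,2,2,2,0,2]]),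
  ([[9,8,5], [8,9,5], [4,4,1]],
    [[0,3,4,4,0,0,0,1,2,3,3,4], [3,0,4,2,1,3,2,3,3,1,2,1], [4,3,0,0,3,4,3,0,3,3,2,0], [2,0,2,3,0,0,0,3,3,0,2,0], [0,3,1,2,4,3,0,0,3,4,0,3], [0,0,4,4,2,3,0,1,2,3,0,4], [0,2,1,3,1,1,3,4,3,0,1,3], [4,0,0,3,4,0,3,1,4,4,3,3], [4,3,1,0,3,4,3,3,2,0,2,0], [4,0,1,3,4,0,3,0,3,0,3,3], [1,2,4,4,4,0,3,1,4,3,2,4], [0,4,2,2,4,3,0,1,2,3,0,2]]),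
  ([[3,2,15], [2,3,15], [8,8,1]],
    [[2,2,3,4,4,0,1,3,0,0,3,4], [1,3,0,4,4,1,4,2,4,1,4,3], [0,4,1,4,4,4,2,4,4,4,1,4], [2,3,0,2,2,0,4,1,4,2,2,0], [3,0,0,4,3,1,2,4,1,4,2,0], [4,1,2,2,2,1,0,4,1,0,3,2], [2,1,3,2,4,1,2,3,3,1,4,2], [0,2,1,0,1,0,2,1,3,2,3,1], [0,2,3,4,1,4,2,2,2,1,1,4], [3,3,0,0,4,0,4,2,2,1,0,4], [1,3,3,4,0,0,0,3,1,0,4,4], [2,0,4,1,0,4,3,2,0,0,3,3]]),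
  ([[0,1,0], [1,0,0], [0,0,1]],
    [[4,0,0,0,0,0,0,0,0,0,0,0], [0,0,0,0,4,0,0,0,0,0,0,0], [0,0,0,0,0,0,0,0,4,0,0,0], [3,0,2,4,4,0,2,3,1,2,2,3], [0,4,0,0,0,0,0,0,0,0,0,0], [0,0,0,0,0,4,0,0,0,0,0,0], [0,0,4,0,0,0,4,0,1,0,0,0], [0,0,0,0,0,0,0,0,0,4,0,0], [0,0,4,0,0,0,0,0,0,0,0,0], [0,0,0,0,0,0,0,4,0,0,0,0], [0,0,0,0,0,0,0,0,0,0,4,0], [2,3,0,0,3,0,3,0,2,0,3,1]]),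
  ([[11,10,2], [10,11,2], [3,3,1]],
    [[3,1,3,2,2,0,2,1,0,2,1,2], [2,4,4,2,0,3,1,0,4,4,3,0], [4,4,3,4,1,2,2,2,2,3,0,4], [4,2,2,2,1,0,3,3,3,4,2,1], [1,0,1,2,1,3,2,3,1,1,4,4], [1,4,2,3,3,3,3,3,0,2,0,3], [2,1,1,3,0,3,2,4,2,4,2,3], [4,0,3,1,3,0,3,4,2,4,2,1], [4,4,1,4,1,2,2,1,4,4,0,4], [4,0,3,1,3,0,3,1,2,2,2,1], [0,4,3,2,0,0,4,1,3,2,4,2], [3,3,4,3,4,2,0,2,2,4,2,3]]),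
  ([[15,14,4], [14,15,4], [5,5,1]],
    [[4,4,0,4,1,0,1,2,2,4,4,4], [2,4,1,2,0,3,0,1,3,3,3,3], [0,4,3,1,2,2,1,1,0,2,2,1], [1,0,3,0,4,0,0,0,3,3,0,3], [0,1,4,2,2,3,2,2,3,2,0,1], [2,3,0,1,1,3,4,3,3,1,3,1], [3,1,4,0,1,3,1,2,2,4,4,0], [4,0,2,4,2,0,0,4,1,0,1,4], [0,4,4,1,2,2,1,4,4,4,2,1], [4,0,3,4,2,0,0,3,0,1,1,4], [2,1,0,4,3,0,4,2,4,4,1,4], [3,1,3,3,1,2,0,2,3,4,2,3]]),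
  ([[9,8,14], [8,9,14], [9,9,1]],
    [[0,4,2,1,2,0,0,1,4,4,1,1], [0,1,2,1,3,4,4,1,1,1,0,0], [4,0,3,4,0,2,4,4,4,4,3,4], [4,3,0,3,0,0,1,3,3,0,2,1], [2,3,3,1,2,4,2,3,2,4,3,2], [3,1,1,1,4,4,3,4,0,2,4,1], [0,0,0,3,1,3,4,0,0,1,2,3], [4,2,0,0,1,0,1,0,3,1,2,1], [4,3,0,4,2,2,4,2,2,1,3,4], [2,3,4,0,4,0,3,1,2,0,4,4], [3,1,2,1,4,0,4,1,0,4,3,1], [3,0,2,1,0,4,3,1,2,1,2,3]]),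
  ([[10,11,2], [11,10,2], [3,3,1]],
    [[2,4,2,3,3,0,3,4,0,3,4,3], [4,0,4,3,4,2,3,2,4,4,1,1], [1,1,4,1,4,3,3,4,1,1,0,1], [4,2,3,3,4,0,4,2,0,1,0,2], [3,1,1,3,0,2,4,0,1,1,2,0], [4,1,3,2,2,2,2,2,0,3,0,2], [3,4,2,2,0,2,3,0,0,2,3,2], [1,0,2,4,2,0,2,4,3,3,3,4], [1,1,2,1,4,3,3,3,3,2,0,1], [1,0,2,4,2,0,2,1,3,1,3,4], [0,1,2,3,0,0,1,4,2,3,1,3], [2,0,4,2,3,3,0,0,0,4,3,2]]),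
  ([[7,6,0], [6,7,0], [0,0,1]],
    [[0,0,0,0,0,0,0,0,0,0,1,0], [0,4,0,0,0,0,0,0,0,0,0,0], [0,0,0,0,0,0,1,0,0,0,0,0], [2,0,3,1,1,0,3,2,4,3,3,2], [0,0,0,0,4,0,0,0,0,0,0,0], [2,0,0,2,1,4,0,4,4,0,3,2], [0,0,1,0,0,0,0,0,0,0,0,0], [0,0,0,0,0,0,0,0,0,1,0,0], [0,0,1,0,0,0,1,0,4,0,0,0], [0,0,0,0,0,0,0,1,0,0,0,0], [1,0,0,0,0,0,0,0,0,0,0,0], [0,0,0,0,0,0,0,0,0,0,0,4]]),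
  ([[15,14,6], [14,15,6], [6,6,1]],
    [[2,0,1,3,4,0,1,4,1,3,2,3], [4,4,4,0,2,0,0,2,1,3,1,0], [0,0,0,0,0,0,1,0,2,0,0,0], [1,1,3,1,3,0,2,2,0,4,0,3], [4,2,1,0,4,0,0,3,4,2,1,0], [4,1,4,2,2,4,4,3,4,4,2,2], [0,0,3,0,0,0,2,0,3,0,0,0], [0,0,2,0,0,0,1,0,4,2,0,0], [0,0,3,0,0,0,1,0,4,0,0,0], [0,0,0,0,0,0,1,2,1,0,0,0], [3,0,1,3,4,0,1,4,1,3,1,3], [2,3,3,0,3,0,3,0,4,0,3,3]]),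
  ([[2,3,12], [3,2,12], [10,10,1]],
    [[1,4,2,3,3,2,2,3,1,2,3,3], [1,3,4,3,0,2,2,0,0,1,4,1], [0,1,0,3,0,0,4,4,0,0,1,4], [4,1,3,0,2,0,0,1,4,3,2,1], [0,2,1,3,3,2,3,2,2,4,0,0], [0,1,2,0,1,0,2,3,0,3,0,0], [2,4,3,3,3,0,4,1,2,3,4,2], [3,1,3,2,4,0,1,4,3,3,3,0], [3,3,3,3,2,0,1,1,0,3,3,2], [2,4,0,2,3,0,2,2,0,0,4,4], [3,1,2,2,2,3,2,1,4,2,1,2], [1,2,4,0,1,0,4,4,2,1,4,4]]),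
  ([[14,15,4], [15,14,4], [5,5,1]],
    [[1,1,0,1,4,0,4,3,3,1,1,1], [0,4,1,3,3,2,3,3,2,3,0,4], [0,1,1,4,3,3,4,1,1,1,3,4], [0,0,2,0,4,0,4,2,3,0,4,3], [3,1,4,3,0,2,0,4,2,2,2,2], [3,2,0,4,4,2,1,2,2,4,2,4], [2,4,2,0,4,2,4,1,2,3,1,0], [1,0,2,1,3,0,0,2,0,4,4,1], [0,1,2,4,3,3,4,4,0,3,3,4], [1,0,3,1,3,0,0,1,4,0,4,1], [3,4,0,1,2,0,1,3,1,1,4,1], [2,3,3,2,0,3,0,0,1,4,3,2]]),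
  ([[9,8,6], [8,9,6], [6,6,1]],
    [[3,0,1,3,4,0,1,4,1,3,1,3], [1,1,1,0,3,0,0,3,4,2,4,0], [0,0,3,0,0,0,2,0,3,0,0,0], [2,4,0,1,3,0,1,1,4,0,4,4], [1,3,4,0,1,0,0,2,1,3,4,0], [4,4,4,0,4,1,4,4,0,4,2,0], [0,0,0,0,0,0,1,0,2,0,0,0], [0,0,0,0,0,0,1,2,1,0,0,0], [0,0,0,0,0,0,2,0,1,0,0,0], [0,0,2,0,0,0,1,0,4,2,0,0], [2,0,1,3,4,0,1,4,1,3,2,3], [3,2,2,0,2,0,2,0,1,0,2,2]]),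
  ([[6,7,0], [7,6,0], [0,0,1]],
    [[0,0,0,0,0,0,0,0,0,0,4,0], [0,0,0,0,1,0,0,0,0,0,0,0], [0,0,4,0,0,0,4,0,1,0,0,0], [0,0,0,4,0,0,0,0,0,0,0,0], [0,1,0,0,0,0,0,0,0,0,0,0], [3,0,0,3,4,1,0,1,1,0,2,3], [0,0,0,0,0,0,0,0,4,0,0,0], [0,0,0,0,0,0,0,4,0,0,0,0], [0,0,0,0,0,0,4,0,0,0,0,0], [0,0,0,0,0,0,0,0,0,4,0,0], [4,0,0,0,0,0,0,0,0,0,0,0], [3,2,0,0,2,0,2,0,3,0,2,4]]),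
  ([[5,4,10], [4,5,10], [12,12,1]],
    [[1,1,1,0,1,3,1,4,0,4,3,0], [1,4,2,2,4,3,4,3,3,1,4,3], [3,0,4,4,2,0,1,3,2,4,0,1], [2,4,1,2,3,0,0,2,2,3,4,4], [4,0,3,2,2,3,1,0,0,4,1,1], [3,1,3,0,1,0,3,4,0,4,2,0], [3,0,0,4,2,0,3,2,4,0,0,2], [3,1,0,0,2,0,0,2,2,0,1,1], [4,4,0,4,1,0,0,2,2,0,4,2], [1,4,2,0,3,0,2,0,3,2,3,4], [4,4,1,1,2,2,1,1,2,4,0,1], [0,4,3,0,1,0,0,1,2,4,0,3]]),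
  ([[14,15,14], [15,14,14], [9,9,1]],
    [[2,4,3,4,1,0,1,4,0,1,2,4], [2,3,3,1,2,4,2,3,2,4,3,2], [0,3,2,2,1,2,1,3,3,1,3,2], [1,2,0,2,0,0,4,2,2,0,3,4], [0,1,2,1,3,4,4,1,1,1,0,0], [1,1,4,1,4,4,1,0,0,3,2,1], [1,2,0,1,3,3,1,3,3,4,2,1], [1,3,0,0,4,0,4,0,2,4,3,4], [0,0,0,2,4,2,1,0,0,4,3,2], [3,2,1,0,1,0,2,4,3,0,1,1], [0,1,3,4,3,0,0,4,1,1,4,4], [4,1,3,1,2,4,2,3,2,4,1,4]]),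
  ([[4,5,12], [5,4,12], [10,10,1]],
    [[3,1,2,2,2,3,2,1,4,2,1,2], [4,2,1,2,0,3,3,0,0,4,1,4], [2,4,3,3,3,0,4,1,2,3,4,2], [2,4,4,0,3,0,2,3,1,1,4,4], [0,3,4,2,2,3,2,3,3,1,0,0], [0,4,2,0,4,0,2,3,0,3,0,0], [0,1,0,3,0,0,4,4,0,0,1,4], [2,4,0,2,3,0,2,2,0,0,4,4], [4,2,0,3,1,0,2,4,2,0,2,4], [3,1,3,2,4,0,1,4,3,3,3,0], [1,4,2,3,3,2,2,3,1,2,3,3], [4,3,1,0,4,0,1,1,3,4,1,1]]),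
  ([[2,3,10], [3,2,10], [12,12,1]],
    [[1,1,4,4,3,3,4,4,3,1,0,4], [4,0,3,2,2,3,1,0,0,4,1,1], [3,4,1,1,2,0,1,2,1,1,4,4], [3,1,4,3,2,0,0,3,3,2,1,1], [1,4,2,2,4,3,4,3,3,1,4,3], [3,1,2,0,1,0,2,1,0,1,2,0], [1,1,0,1,4,0,0,3,3,0,1,3], [2,4,0,0,3,0,0,3,3,0,4,4], [2,0,0,1,3,0,2,3,1,0,0,3], [4,1,3,0,2,0,3,0,2,3,2,1], [4,4,4,0,4,2,4,1,0,1,2,0], [4,2,2,0,0,0,1,4,2,1,1,2]]),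
  ([[2,3,1], [3,2,1], [1,1,1]],
    [[2,3,2,0,3,4,2,2,0,2,3,0], [4,4,1,1,3,4,4,1,2,1,1,1], [0,0,2,0,0,0,3,0,3,0,0,0], [3,0,2,2,4,0,0,1,4,4,2,3], [4,0,4,1,2,4,4,3,4,4,1,1], [0,4,2,4,1,0,1,4,4,1,4,4], [0,0,1,0,0,0,0,0,2,0,0,0], [2,0,4,1,3,0,4,4,2,1,0,1], [0,0,1,0,0,0,3,0,4,0,0,0], [2,0,4,1,3,0,4,3,2,2,0,1], [1,2,2,3,1,1,2,3,1,2,4,3], [1,4,3,0,4,0,1,2,1,3,4,4]]),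
  ([[10,11,3], [11,10,3], [2,2,1]],
    [[3,3,2,3,2,0,3,2,0,1,3,3], [2,0,3,3,4,2,4,3,4,3,3,0], [4,2,0,1,0,1,4,2,1,4,4,1], [3,3,3,0,0,0,3,2,2,0,1,1], [3,4,2,3,3,2,3,4,1,2,2,1], [2,3,1,0,3,2,2,4,4,4,0,0], [3,3,3,3,2,4,4,0,2,0,0,3], [2,0,2,4,2,0,2,4,3,3,4,4], [4,2,3,1,0,1,4,1,3,0,4,1], [2,0,2,4,2,0,2,1,3,1,4,4], [4,2,2,3,1,0,1,2,2,1,2,3], [0,0,2,3,2,2,0,4,4,2,0,3]]),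
  ([[8,9,5], [9,8,5], [4,4,1]],
    [[0,2,1,1,0,0,0,4,3,2,2,1], [0,2,4,3,1,2,0,0,2,1,0,2], [1,2,4,0,2,1,2,2,3,0,3,0], [2,0,3,2,2,0,1,4,1,3,4,4], [2,0,1,3,4,2,3,2,2,4,3,4], [0,0,1,1,3,2,0,4,3,2,0,1], [0,3,0,2,4,4,2,4,1,2,4,2], [1,0,4,2,1,0,2,0,2,0,2,2], [1,2,0,0,2,1,2,0,2,2,3,0], [1,0,0,2,1,0,2,4,1,1,2,2], [4,3,1,1,1,0,2,4,1,2,3,1], [0,2,2,3,0,2,0,3,4,3,0,3]]),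
  ([[2,3,15], [3,2,15], [8,8,1]],
    [[3,3,2,1,1,0,4,2,0,0,2,1], [2,0,0,1,2,4,3,1,4,1,3,0], [0,3,2,1,4,1,3,3,3,4,4,1], [4,3,1,3,0,0,0,4,1,3,2,1], [4,2,0,1,1,4,1,3,1,4,1,2], [1,4,3,3,3,4,0,1,4,0,2,3], [3,2,4,3,3,4,3,0,0,1,1,3], [2,2,0,0,1,0,1,3,3,4,0,1], [0,1,4,1,1,1,3,1,1,1,4,1], [0,3,4,0,4,0,3,4,2,3,2,4], [4,2,2,1,0,0,0,2,4,0,1,1], [2,4,4,4,3,1,3,3,1,0,3,1]]),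
  ([[5,4,1], [4,5,1], [1,1,1]],
    [[4,3,3,2,4,4,3,2,4,3,1,2], [4,0,4,1,2,4,4,3,4,4,1,1], [0,0,3,0,0,0,0,0,4,0,0,0], [2,0,3,3,1,0,0,4,1,1,3,2], [4,4,1,1,3,4,4,1,2,1,1,1], [3,4,3,1,2,0,2,1,3,4,3,1], [0,0,4,0,0,0,2,0,1,0,0,0], [3,0,1,4,2,0,1,1,3,4,0,4], [0,0,4,0,0,0,0,0,3,0,0,0], [3,0,1,4,2,0,1,2,3,3,0,4], [3,2,3,0,2,1,3,3,0,3,2,0], [3,2,2,0,2,0,4,3,4,2,2,1]]),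
  ([[11,10,7], [10,11,7], [7,7,1]],
    [[2,3,4,2,4,4,4,4,4,0,4,2], [2,3,1,1,3,4,1,2,0,0,3,1], [0,0,4,0,0,0,4,0,3,0,0,0], [0,4,4,3,4,0,0,3,3,0,3,1], [2,0,4,1,1,4,1,2,2,0,3,1], [1,1,2,4,3,0,3,3,2,0,4,4], [0,0,2,0,0,0,2,0,2,0,0,0], [1,0,0,3,4,0,4,2,0,3,0,3], [0,0,2,0,0,0,4,0,0,0,0,0], [1,0,3,3,4,0,4,4,2,1,0,3], [1,2,4,0,2,1,4,0,0,0,0,0], [0,0,2,0,0,0,3,1,0,4,0,2]]),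
  ([[10,11,13], [11,10,13], [11,11,1]],
    [[2,0,0,0,0,0,0,1,0,1,0,0], [1,1,0,0,4,0,0,2,0,3,4,3], [2,0,4,1,3,0,0,4,4,4,0,2], [4,1,0,2,3,0,3,4,4,4,3,3], [0,0,0,0,2,0,1,3,4,2,0,2], [1,4,0,1,2,3,3,3,4,1,2,1], [2,0,2,1,3,0,1,1,0,2,0,0], [1,1,4,0,3,0,2,0,4,3,0,3], [0,2,2,1,0,0,2,1,4,2,2,0], [0,4,1,0,2,0,3,3,1,0,1,2], [0,0,0,0,0,0,0,1,0,1,2,0], [0,3,3,0,2,0,1,4,1,1,0,4]]),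
  ([[13,12,7], [12,13,7], [7,7,1]],
    [[1,2,4,0,2,1,4,0,0,0,0,0], [3,2,4,4,2,1,4,3,0,0,2,4], [0,0,2,0,0,0,2,0,2,0,0,0], [4,1,2,3,4,0,1,1,4,2,4,0], [3,0,1,4,4,1,4,3,3,0,2,4], [2,4,2,4,1,0,1,3,4,0,3,4], [0,0,4,0,0,0,4,0,3,0,0,0], [1,0,3,3,4,0,4,4,2,1,0,3], [0,0,4,0,0,0,2,0,0,0,0,0], [1,0,0,3,4,0,4,2,0,3,0,3], [2,3,4,2,4,4,4,4,4,0,4,2], [0,0,3,0,0,0,2,4,0,1,0,3]]),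
  ([[4,5,1], [5,4,1], [1,1,1]],
    [[1,2,2,3,1,1,2,3,1,2,4,3], [1,1,4,4,2,1,1,4,3,4,4,4], [0,0,1,0,0,0,0,0,2,0,0,0], [1,0,0,2,3,0,2,3,4,2,4,1], [1,0,1,4,3,1,1,2,1,1,4,4], [2,1,2,4,3,0,3,4,2,1,2,4], [0,0,2,0,0,0,3,0,3,0,0,0], [2,0,4,1,3,0,4,3,2,2,0,1], [0,0,2,0,0,0,0,0,1,0,0,0], [2,0,4,1,3,0,4,4,2,1,0,1], [2,3,2,0,3,4,2,2,0,2,3,0], [4,1,2,0,1,0,4,3,4,2,1,1]]),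
  ([[11,10,11], [10,11,11], [13,13,1]],
    [[4,0,1,4,2,0,1,0,3,2,3,4], [2,0,4,0,4,0,2,0,4,0,3,1], [2,4,1,3,3,0,0,3,3,1,4,0], [4,4,2,2,3,0,2,4,3,4,1,4], [0,1,1,0,2,0,4,0,0,0,0,4], [0,2,4,0,2,2,2,3,2,3,4,0], [0,1,2,3,0,0,3,2,4,2,1,1], [1,1,0,2,3,0,0,4,1,3,0,3], [3,3,2,3,2,0,4,2,3,2,3,1], [4,4,2,2,4,0,2,2,2,0,2,1], [1,0,1,4,2,0,1,0,3,2,1,4], [4,0,0,0,2,0,2,1,3,4,1,3]]),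
  ([[5,4,15], [4,5,15], [8,8,1]],
    [[1,3,3,4,0,0,0,3,1,0,4,4], [4,2,0,1,1,4,1,3,1,4,1,2], [2,1,3,2,4,1,2,3,3,1,4,2], [1,2,4,2,0,0,0,1,4,2,3,4], [2,0,0,1,2,4,3,1,4,1,3,0], [4,4,2,4,1,4,4,3,1,0,3,4], [0,4,1,4,4,4,2,4,4,4,1,4], [3,3,0,0,4,0,4,2,2,1,0,4], [2,3,1,2,2,1,2,0,0,4,4,2], [0,2,1,0,1,0,2,1,3,2,3,1], [2,2,3,4,4,0,1,3,0,0,3,4], [3,0,1,4,0,1,2,3,0,0,2,2]]),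
  ([[12,13,13], [13,12,13], [11,11,1]],
    [[0,0,0,0,0,0,0,1,0,1,2,0], [4,4,0,0,1,0,0,3,0,2,1,2], [2,0,2,1,3,0,1,1,0,2,0,0], [2,4,3,2,4,0,0,3,4,0,0,1], [0,0,0,0,3,0,4,2,1,3,0,3], [0,1,0,2,2,2,2,0,2,1,3,2], [2,0,4,1,3,0,0,4,4,4,0,2], [0,4,1,0,2,0,3,3,1,0,1,2], [4,3,4,1,1,0,4,4,0,4,3,2], [1,1,4,0,3,0,2,0,4,3,0,3], [2,0,0,0,0,0,0,1,0,1,0,0], [0,2,2,0,3,0,4,1,4,4,0,1]]),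
  ([[12,13,11], [13,12,11], [13,13,1]],
    [[4,0,4,1,3,0,4,0,2,3,4,1], [0,1,1,0,2,0,4,0,0,0,0,4], [1,3,4,2,4,0,1,2,1,4,3,0], [1,1,3,3,2,0,3,1,2,1,4,1], [2,0,4,0,4,0,2,0,4,0,3,1], [2,2,1,1,0,2,4,4,4,2,4,1], [2,2,3,2,3,0,1,3,2,3,2,4], [4,4,0,3,2,0,0,1,4,2,0,2], [0,4,3,2,0,0,2,3,1,3,4,4], [1,1,3,3,1,0,3,3,3,0,3,4], [1,0,4,1,3,0,4,0,2,3,2,1], [3,3,0,0,1,0,3,4,2,1,2,2]]),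
  ([[10,11,7], [11,10,7], [7,7,1]],
    [[3,2,1,3,1,1,1,1,1,0,1,3], [3,0,1,4,4,1,4,3,3,0,2,4], [0,0,3,0,0,0,1,0,0,0,0,0], [1,4,3,2,1,0,4,4,1,3,1,0], [3,2,4,4,2,1,4,3,0,0,2,4], [4,4,3,1,2,0,2,2,3,0,1,1], [0,0,1,0,0,0,3,0,0,0,0,0], [4,0,2,2,1,0,1,1,3,4,0,2], [0,0,1,0,0,0,1,0,2,0,0,0], [4,0,0,2,1,0,1,3,0,2,0,2], [4,3,1,0,3,4,1,0,0,0,0,0], [4,1,2,0,1,0,3,1,0,4,1,2]]),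
  ([[11,10,13], [10,11,13], [11,11,1]],
    [[3,0,0,0,0,0,0,4,0,4,0,0], [0,0,0,0,3,0,4,2,1,3,0,3], [0,3,3,4,0,0,3,4,1,3,3,0], [3,1,2,3,1,0,0,2,1,0,0,4], [4,4,0,0,1,0,0,3,0,2,1,2], [4,1,0,4,3,2,2,2,1,4,3,4], [1,2,1,4,4,0,1,1,0,1,2,3], [0,1,4,0,3,0,2,2,4,0,4,3], [3,0,1,4,2,0,0,1,1,1,0,3], [4,4,1,0,2,0,3,0,1,2,0,2], [0,0,0,0,0,0,0,4,0,4,3,0], [3,0,3,0,4,0,1,4,1,1,2,4]]),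
  ([[13,12,3], [12,13,3], [2,2,1]],
    [[1,3,3,2,4,0,4,3,3,4,3,2], [3,4,2,3,3,2,3,4,1,2,2,1], [2,2,0,2,3,1,1,4,0,1,0,2], [2,2,2,0,0,0,2,3,3,0,4,4], [2,0,3,3,4,2,4,3,4,3,3,0], [1,3,4,1,1,2,0,3,1,1,2,1], [1,3,2,4,0,4,1,4,2,0,1,4], [3,0,3,1,3,0,3,1,2,2,1,1], [2,2,2,2,3,1,1,0,3,0,0,2], [3,0,3,1,3,0,3,4,2,4,1,1], [2,2,3,2,3,0,2,3,0,4,2,2], [0,3,3,3,4,2,0,3,3,3,0,3]]),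
  ([[15,14,5], [14,15,5], [4,4,1]],
    [[1,2,4,4,4,0,3,1,4,3,2,4], [2,0,1,3,4,2,3,2,2,4,3,4], [0,2,1,3,1,1,3,4,3,0,1,3], [3,0,2,3,3,0,4,1,4,2,1,1], [0,2,4,3,1,2,0,0,2,1,0,2], [4,0,4,0,0,2,3,3,1,3,1,0], [4,3,0,0,3,4,3,0,3,3,2,0], [4,0,1,3,4,0,3,0,3,0,3,3], [0,2,0,3,1,1,3,1,4,3,1,3], [4,0,0,3,4,0,3,1,4,4,3,3], [0,3,4,4,0,0,0,1,2,3,3,4], [0,1,3,3,1,2,0,4,3,2,0,3]]),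
  ([[12,13,3], [13,12,3], [2,2,1]],
    [[4,2,2,3,1,0,1,2,2,1,2,3], [3,0,2,2,1,3,1,2,1,2,2,0], [3,3,3,3,2,4,4,0,2,0,0,3], [1,2,0,0,0,0,0,0,3,2,3,4], [2,1,3,2,2,3,2,1,4,3,3,4], [4,2,1,4,4,3,0,2,4,4,3,4], [4,2,0,1,0,1,4,2,1,4,4,1], [2,0,2,4,2,0,2,1,3,1,4,4], [3,3,0,3,2,4,4,1,0,4,0,3], [2,0,2,4,2,0,2,4,3,3,4,4], [3,3,2,3,2,0,3,2,0,1,3,3], [0,0,3,2,3,3,0,1,1,3,0,2]]),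
  ([[8,9,9], [9,8,9], [14,14,1]],
    [[1,3,0,1,1,0,2,1,0,4,0,1], [3,4,4,4,4,1,0,2,4,1,2,1], [2,0,4,0,1,4,1,2,2,3,1,0], [1,3,1,1,2,0,4,2,3,2,1,0], [4,1,1,4,0,1,4,4,3,4,1,2], [1,3,0,0,3,1,2,2,3,2,3,0], [4,0,3,3,3,1,1,4,4,2,4,3], [3,3,2,1,4,0,2,3,3,0,0,4], [2,1,3,0,0,4,1,3,3,2,1,0], [2,2,3,1,2,0,3,2,1,1,1,3], [2,2,0,1,0,0,3,1,4,4,4,1], [1,0,1,1,2,4,4,3,2,4,4,2]]),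
  ([[15,14,9], [14,15,9], [14,14,1]],
    [[3,3,0,4,0,0,2,4,1,1,1,4], [4,1,1,4,0,1,4,4,3,4,1,2], [1,1,1,2,1,4,4,2,2,2,1,2], [4,2,4,4,3,0,1,3,2,3,4,0], [3,4,4,4,4,1,0,2,4,1,2,1], [0,3,0,3,2,1,2,4,4,3,1,3], [3,4,2,0,0,1,4,2,2,3,4,0], [2,2,3,4,1,0,3,2,2,0,0,1], [1,0,2,2,2,4,4,1,1,3,1,2], [3,3,2,4,3,0,2,3,4,4,4,2], [4,2,0,4,4,0,3,4,0,1,0,4], [4,1,4,1,0,4,1,1,2,1,1,0]]),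
  ([[12,13,7], [13,12,7], [7,7,1]],
    [[4,3,1,0,3,4,1,0,0,0,0,0], [2,0,4,1,1,4,1,2,2,0,3,1], [0,0,1,0,0,0,3,0,0,0,0,0], [0,1,1,2,1,0,0,2,2,0,2,4], [2,3,1,1,3,4,1,2,0,0,3,1], [3,1,3,1,4,0,4,2,1,0,2,1], [0,0,3,0,0,0,1,0,0,0,0,0], [4,0,0,2,1,0,1,3,0,2,0,2], [0,0,3,0,0,0,3,0,3,0,0,0], [4,0,2,2,1,0,1,1,3,4,0,2], [3,2,1,3,1,1,1,1,1,0,1,3], [1,4,3,0,4,0,2,4,0,1,4,3]]),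
  ([[10,11,11], [11,10,11], [13,13,1]],
    [[1,0,4,1,3,0,4,0,2,3,2,1], [0,4,4,0,3,0,1,0,0,0,0,1], [2,2,3,2,3,0,1,3,2,3,2,4], [0,4,4,3,1,0,4,2,0,0,0,0], [3,0,1,0,1,0,3,0,1,0,2,4], [0,3,1,0,3,3,3,2,3,2,1,0], [1,3,4,2,4,0,1,2,1,4,3,0], [1,1,3,3,1,0,3,3,3,0,3,4], [3,1,4,2,2,0,0,2,2,4,1,0], [4,4,0,3,2,0,0,1,4,2,0,2], [4,0,4,1,3,0,4,0,2,3,4,1], [2,2,0,0,4,0,2,1,3,4,3,3]]),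
  ([[14,15,9], [15,14,9], [14,14,1]],
    [[2,2,0,1,0,0,3,1,4,4,4,1], [2,1,1,1,1,4,0,3,1,4,3,4], [4,0,3,3,3,1,1,4,4,2,4,3], [3,2,0,1,4,0,2,4,1,0,4,2], [1,4,4,1,0,4,1,1,2,1,4,3], [0,2,0,2,3,4,3,1,1,2,4,2], [2,0,4,0,1,4,1,2,2,3,1,0], [2,2,3,1,2,0,3,2,1,1,1,3], [4,4,4,3,4,1,1,3,3,3,4,3], [3,3,2,1,4,0,2,3,3,0,0,4], [1,3,0,1,1,0,2,1,0,4,0,1], [4,0,4,4,3,1,1,2,3,1,1,3]]),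
  ([[14,15,5], [15,14,5], [4,4,1]],
    [[4,3,1,1,1,0,2,4,1,2,3,1], [0,3,1,2,4,3,0,0,3,4,0,3], [0,3,0,2,4,4,2,4,1,2,4,2], [3,0,3,2,0,0,0,2,2,0,3,0], [3,0,4,2,1,3,2,3,3,1,2,1], [1,0,1,0,0,3,2,2,4,2,4,0], [1,2,4,0,2,1,2,2,3,0,3,0], [1,0,0,2,1,0,2,4,1,1,2,2], [0,3,4,2,4,4,2,1,2,0,4,2], [1,0,4,2,1,0,2,0,2,0,2,2], [0,2,1,1,0,0,0,4,3,2,2,1], [0,3,3,2,0,3,0,2,1,2,0,2]]),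
  ([[4,5,15], [5,4,15], [8,8,1]],
    [[4,2,2,1,0,0,0,2,4,0,1,1], [3,0,0,4,3,1,2,4,1,4,2,0], [3,2,4,3,3,4,3,0,0,1,1,3], [3,2,0,3,3,0,1,4,1,3,3,0], [1,3,0,4,4,1,4,2,4,1,4,3], [1,1,3,1,4,1,1,2,4,0,2,1], [0,3,2,1,4,1,3,3,3,4,4,1], [0,3,4,0,4,0,3,4,2,3,2,4], [3,4,2,3,1,4,3,2,2,4,1,3], [2,2,0,0,1,0,1,3,3,4,0,1], [3,3,2,1,1,0,4,2,0,0,2,1], [3,1,1,1,2,4,2,2,4,0,2,4]]),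
  ([[13,12,11], [12,13,11], [13,13,1]],
    [[1,0,1,4,2,0,1,0,3,2,1,4], [3,0,1,0,1,0,3,0,1,0,2,4], [0,1,2,3,0,0,3,2,4,2,1,1], [0,1,1,2,4,0,1,3,0,0,0,0], [0,4,4,0,3,0,1,0,0,0,0,1], [3,3,4,4,0,3,1,1,1,3,1,4], [2,4,1,3,3,0,0,3,3,1,4,0], [4,4,2,2,4,0,2,2,2,0,2,1], [4,2,1,3,1,0,4,3,4,1,2,0], [1,1,0,2,3,0,0,4,1,3,0,3], [4,0,1,4,2,0,1,0,3,2,3,4], [1,0,0,0,3,0,3,4,2,1,4,2]]),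
  ([[9,8,9], [8,9,9], [14,14,1]],
    [[4,2,0,4,4,0,3,4,0,1,0,4], [1,4,4,1,0,4,1,1,2,1,4,3], [3,4,2,0,0,1,4,2,2,3,4,0], [2,3,0,4,1,0,3,1,4,0,1,3], [2,1,1,1,1,4,0,3,1,4,3,4], [4,2,0,0,2,4,3,3,2,3,2,0], [1,1,1,2,1,4,4,2,2,2,1,2], [3,3,2,4,3,0,2,3,4,4,4,2], [3,0,1,0,4,1,4,3,3,2,4,0], [2,2,3,4,1,0,3,2,2,0,0,1], [3,3,0,4,0,0,2,4,1,1,1,4], [1,4,1,4,0,1,4,4,3,4,4,0]]),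
  ([[8,9,14], [9,8,14], [9,9,1]],
    [[0,1,3,4,3,0,0,4,1,1,4,4], [3,2,2,4,3,1,3,2,3,1,2,3], [1,2,0,1,3,3,1,3,3,4,2,1], [2,3,2,2,2,0,3,4,1,3,2,0], [0,4,3,4,2,1,1,4,4,4,0,0], [2,4,4,4,1,1,2,1,0,3,1,4], [0,3,2,2,1,2,1,3,3,1,3,2], [3,2,1,0,1,0,2,4,3,0,1,1], [1,0,2,1,0,3,1,1,1,1,2,1], [1,3,0,0,4,0,4,0,2,4,3,4], [2,4,3,4,1,0,1,4,0,1,2,4], [1,4,2,4,3,1,3,2,3,1,4,1]]),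
  ([[14,15,6], [15,14,6], [6,6,1]],
    [[3,0,4,2,1,0,4,1,4,2,3,2], [1,3,4,0,1,0,0,2,1,3,4,0], [0,0,2,0,0,0,4,0,1,0,0,0], [3,1,0,4,2,0,4,4,1,0,1,1], [1,1,1,0,3,0,0,3,4,2,4,0], [1,4,1,3,3,1,1,2,1,1,3,3], [0,0,0,0,0,0,3,0,4,0,0,0], [0,0,0,0,0,0,4,3,4,0,0,0], [0,0,0,0,0,0,4,0,3,0,0,0], [0,0,3,0,0,0,4,0,1,3,0,0], [2,0,4,2,1,0,4,1,4,2,4,2], [4,1,3,0,1,0,1,0,1,0,1,3]]),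
  ([[3,2,12], [2,3,12], [10,10,1]],
    [[4,1,3,2,2,3,3,2,4,3,2,2], [0,3,4,2,2,3,2,3,3,1,0,0], [2,2,2,2,3,0,4,4,0,2,2,3], [3,1,1,0,2,0,3,2,4,4,1,1], [4,2,1,2,0,3,3,0,0,4,1,4], [0,4,3,0,4,0,3,2,0,2,0,0], [1,3,0,2,4,0,3,1,3,0,3,1], [3,1,0,3,2,0,3,3,0,0,1,1], [0,4,0,2,0,0,1,1,0,0,4,1], [2,4,2,3,1,0,4,1,2,2,2,0], [2,4,3,3,3,2,3,4,1,3,4,3], [2,1,4,0,0,0,3,4,3,1,3,4]]),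
  ([[8,9,6], [9,8,6], [6,6,1]],
    [[2,0,4,2,1,0,4,1,4,2,4,2], [4,2,1,0,4,0,0,3,4,2,1,0], [0,0,0,0,0,0,3,0,4,0,0,0], [4,4,2,4,2,0,3,3,0,1,0,2], [4,4,4,0,2,0,0,2,1,3,1,0], [1,1,1,0,1,4,1,1,0,1,3,0], [0,0,2,0,0,0,4,0,1,0,0,0], [0,0,3,0,0,0,4,0,1,3,0,0], [0,0,2,0,0,0,3,0,2,0,0,0], [0,0,0,0,0,0,4,3,4,0,0,0], [3,0,4,2,1,0,4,1,4,2,3,2], [1,4,2,0,4,0,4,0,4,0,4,2]]),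
  ([[4,5,10], [5,4,10], [12,12,1]],
    [[4,4,4,0,4,2,4,1,0,1,2,0], [1,0,2,3,3,2,4,0,0,1,4,4], [1,1,0,1,4,0,0,3,3,0,1,3], [2,4,2,3,1,0,1,3,4,2,2,0], [4,1,3,3,1,2,1,2,2,4,1,2], [2,4,2,0,4,0,2,1,0,1,3,0], [3,4,1,1,2,0,1,2,1,1,4,4], [4,1,3,0,2,0,3,0,2,3,2,1], [2,0,1,1,3,0,4,2,3,1,0,4], [2,4,0,0,3,0,0,3,3,0,4,4], [1,1,4,4,3,3,4,4,3,1,0,4], [1,3,3,0,0,0,4,1,3,4,4,3]]),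
  ([[15,14,14], [14,15,14], [9,9,1]],
    [[3,1,2,1,4,0,4,1,0,4,3,1], [0,4,3,4,2,1,1,4,4,4,0,0], [0,0,0,3,1,3,4,0,0,1,2,3], [3,2,3,3,3,0,2,1,4,2,3,0], [3,2,2,4,3,1,3,2,3,1,2,3], [4,4,1,4,1,1,4,0,0,2,3,4], [4,0,3,4,0,2,4,4,4,4,3,4], [2,3,4,0,4,0,3,1,2,0,4,4], [0,2,3,3,4,3,4,2,2,4,2,3], [4,2,0,0,1,0,1,0,3,1,2,1], [0,4,2,1,2,0,0,1,4,4,1,1], [2,0,3,4,0,1,2,4,3,4,3,2]]),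
  ([[5,4,12], [4,5,12], [10,10,1]],
    [[2,4,3,3,3,2,3,4,1,3,4,3], [0,2,1,3,3,2,3,2,2,4,0,0], [1,3,0,2,4,0,3,1,3,0,3,1], [1,4,2,0,3,0,0,4,1,2,3,4], [1,3,4,3,0,2,2,0,0,1,4,1], [0,1,3,0,1,0,3,2,0,2,0,0], [2,2,2,2,3,0,4,4,0,2,2,3], [2,4,2,3,1,0,4,1,2,2,2,0], [3,1,2,2,2,0,1,4,3,2,1,3], [3,1,0,3,2,0,3,3,0,0,1,1], [4,1,3,2,2,3,3,2,4,3,2,2], [3,4,1,0,0,0,2,1,2,4,2,1]]),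
  ([[3,2,10], [2,3,10], [12,12,1]],
    [[4,4,1,1,2,2,1,1,2,4,0,1], [4,1,3,3,1,2,1,2,2,4,1,2], [3,0,0,4,2,0,3,2,4,0,0,2], [3,1,3,2,4,0,4,2,1,3,3,0], [1,0,2,3,3,2,4,0,0,1,4,4], [2,4,3,0,4,0,3,4,0,4,3,0], [3,0,4,4,2,0,1,3,2,4,0,1], [1,4,2,0,3,0,2,0,3,2,3,4], [2,1,4,4,3,0,4,3,4,4,1,1], [3,1,0,0,2,0,0,2,2,0,1,1], [1,1,1,0,1,3,1,4,0,4,3,0], [0,1,2,0,4,0,0,4,3,1,0,2]]),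
  ([[13,12,2], [12,13,2], [3,3,1]],
    [[0,4,3,2,0,0,4,1,3,2,4,2], [3,1,1,3,0,2,4,0,1,1,2,0], [2,1,1,3,0,3,2,4,2,4,2,3], [1,3,2,2,1,0,1,3,0,4,0,3], [4,0,4,3,4,2,3,2,4,4,1,1], [2,1,2,4,3,2,1,0,4,2,4,4], [4,4,3,4,1,2,2,2,2,3,0,4], [4,0,3,1,3,0,3,1,2,2,2,1], [2,1,3,3,0,3,2,0,0,3,2,3], [4,0,3,1,3,0,3,4,2,4,2,1], [3,1,3,2,2,0,2,1,0,2,1,2], [2,2,1,2,1,3,0,3,3,1,3,2]]),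
  ([[9,8,4], [8,9,4], [5,5,1]],
    [[2,1,0,4,3,0,4,2,4,4,1,4], [3,1,4,3,0,2,0,4,2,2,2,2], [3,1,4,0,1,3,1,2,2,4,4,0], [0,0,3,0,1,0,1,3,2,0,1,2], [0,4,1,3,3,2,3,3,2,3,0,4], [1,2,0,2,3,2,1,0,3,1,4,2], [0,4,3,1,2,2,1,1,0,2,2,1], [4,0,3,4,2,0,0,3,0,1,1,4], [3,1,3,0,1,3,1,4,3,2,4,0], [4,0,2,4,2,0,0,4,1,0,1,4], [4,4,0,4,1,0,1,2,2,4,4,4], [2,4,2,2,4,3,0,3,2,1,3,2]]),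
  ([[12,13,2], [13,12,2], [3,3,1]],
    [[0,1,2,3,0,0,1,4,2,3,1,3], [1,0,1,2,1,3,2,3,1,1,4,4], [3,4,2,2,0,2,3,0,0,2,3,2], [1,3,3,3,4,0,2,2,2,1,3,4], [2,4,4,2,0,3,1,0,4,4,3,0], [3,4,3,1,2,3,4,0,1,3,1,1], [1,1,4,1,4,3,3,4,1,1,0,1], [1,0,2,4,2,0,2,1,3,1,3,4], [3,4,4,2,0,2,3,1,3,1,3,2], [1,0,2,4,2,0,2,4,3,3,3,4], [2,4,2,3,3,0,3,4,0,3,4,3], [3,0,1,3,2,2,0,0,0,1,2,3]]),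
  ([[4,5,8], [5,4,8], [15,15,1]],
    [[0,1,1,1,4,0,3,2,0,0,0,1], [1,3,3,1,4,4,0,1,4,1,4,3], [3,1,0,1,0,2,2,4,4,3,3,1], [2,3,4,4,1,0,4,3,1,1,1,3], [2,0,2,1,0,4,4,3,1,4,3,4], [3,0,1,0,0,4,4,0,2,0,4,0], [4,4,4,0,3,3,2,3,3,2,2,0], [3,3,4,2,2,0,4,3,0,3,3,0], [3,2,4,1,4,2,2,0,0,2,3,1], [2,2,0,2,0,0,0,2,3,4,4,4], [2,4,1,1,2,0,4,2,4,0,3,1], [2,0,0,1,2,4,4,0,3,2,3,2]]),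
  ([[3,2,8], [2,3,8], [15,15,1]],
    [[3,1,4,4,3,0,1,3,1,0,2,4], [2,0,2,1,0,4,4,3,1,4,3,4], [1,2,0,0,1,2,3,3,3,2,3,0], [3,2,1,1,4,0,1,2,4,4,4,2], [1,3,3,1,4,4,0,1,4,1,4,3], [3,0,4,2,1,4,2,4,1,0,0,2], [2,3,1,4,1,3,3,0,0,3,2,4], [2,2,1,3,3,0,1,2,0,2,2,0], [1,1,1,0,2,2,3,2,2,3,3,0], [3,3,0,3,0,0,0,3,2,1,1,1], [0,4,4,4,1,0,2,3,0,0,0,4], [0,1,0,1,0,4,1,4,1,3,0,0]]),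
  ([[2,3,8], [3,2,8], [15,15,1]],
    [[2,4,1,1,2,0,4,2,4,0,3,1], [4,2,2,4,1,1,0,4,1,4,1,2], [4,4,4,0,3,3,2,3,3,2,2,0], [4,2,2,4,3,0,2,4,0,0,4,0], [3,0,3,4,0,1,1,2,4,1,2,1], [2,0,1,3,4,1,3,1,4,0,0,3], [3,1,0,1,0,2,2,4,4,3,3,1], [2,2,0,2,0,0,0,2,3,4,4,4], [4,3,0,0,4,3,2,2,2,3,2,0], [3,3,4,2,2,0,4,3,0,3,3,0], [0,1,1,1,4,0,3,2,0,0,0,1], [3,0,0,4,3,1,1,0,2,3,2,3]]),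
  ([[8,9,4], [9,8,4], [5,5,1]],
    [[3,4,0,1,2,0,1,3,1,1,4,1], [0,1,4,2,2,3,2,2,3,2,0,1], [2,4,2,0,4,2,4,1,2,3,1,0], [4,0,2,0,1,0,0,0,2,2,0,2], [2,4,1,2,0,3,0,1,3,3,3,3], [4,3,0,3,2,3,4,0,2,4,1,3], [0,1,1,4,3,3,4,1,1,1,3,4], [1,0,3,1,3,0,0,1,4,0,4,1], [2,4,1,0,4,2,4,3,3,1,1,0], [1,0,2,1,3,0,0,2,0,4,4,1], [1,1,0,1,4,0,4,3,3,1,1,1], [3,2,2,3,0,2,0,0,4,1,2,3]]),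
  ([[5,4,8], [4,5,8], [15,15,1]],
    [[0,4,4,4,1,0,2,3,0,0,0,4], [3,0,3,4,0,1,1,2,4,1,2,1], [2,3,1,4,1,3,3,0,0,3,2,4], [1,3,3,1,2,0,3,1,0,0,1,0], [4,2,2,4,1,1,0,4,1,4,1,2], [2,0,4,0,0,1,1,0,3,0,1,0], [1,2,0,0,1,2,3,3,3,2,3,0], [3,3,0,3,0,0,0,3,2,1,1,1], [2,4,0,4,0,3,3,1,1,2,2,4], [2,2,1,3,3,0,1,2,0,2,2,0], [3,1,4,4,3,0,1,3,1,0,2,4], [0,4,0,4,0,1,4,1,4,2,0,0]]),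
  ([[13,12,13], [12,13,13], [11,11,1]],
    [[0,0,0,0,0,0,0,4,0,4,3,0], [0,0,0,0,2,0,1,3,4,2,0,2], [1,2,1,4,4,0,1,1,0,1,2,3], [1,4,0,3,2,0,2,1,1,1,2,2], [1,1,0,0,4,0,0,2,0,3,4,3], [0,4,0,3,3,3,3,0,3,4,2,3], [0,3,3,4,0,0,3,4,1,3,3,0], [4,4,1,0,2,0,3,0,1,2,0,2], [3,0,3,4,2,0,4,4,0,3,0,0], [0,1,4,0,3,0,2,2,4,0,4,3], [3,0,0,0,0,0,0,4,0,4,0,0], [2,0,2,0,1,0,4,1,4,4,3,1]])]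

/-- The powers of the torus pair. -/
def tList : List Raw := [
  ([[1,0,0], [0,1,0], [0,0,1]],
    [[1,0,0,0,0,0,0,0,0,0,0,0], [0,1,0,0,0,0,0,0,0,0,0,0], [0,0,1,0,0,0,0,0,0,0,0,0], [0,0,0,1,0,0,0,0,0,0,0,0], [0,0,0,0,1,0,0,0,0,0,0,0], [0,0,0,0,0,1,0,0,0,0,0,0], [0,0,0,0,0,0,1,0,0,0,0,0], [0,0,0,0,0,0,0,1,0,0,0,0], [0,0,0,0,0,0,0,0,1,0,0,0], [0,0,0,0,0,0,0,0,0,1,0,0], [0,0,0,0,0,0,0,0,0,0,1,0], [0,0,0,0,0,0,0,0,0,0,0,1]]),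
  ([[9,11,0], [7,5,0], [0,0,8]],
    [[4,1,3,3,2,0,3,0,2,4,2,1], [4,1,3,3,0,1,0,4,4,3,1,3], [3,3,1,4,2,0,3,0,4,3,1,3], [2,2,4,1,0,4,0,1,3,1,3,4], [4,4,3,0,4,4,1,3,2,3,1,0], [1,1,2,0,3,0,1,1,0,1,0,3], [0,2,1,1,2,0,4,4,2,3,1,0], [0,2,1,1,4,4,1,3,0,4,0,2], [2,2,1,4,1,0,4,0,3,3,2,3], [2,2,1,4,3,1,2,4,0,4,3,0], [2,1,1,2,4,0,1,0,0,1,2,0], [3,4,4,3,3,1,2,4,3,3,2,3]]),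
  ([[9,13,0], [2,6,0], [0,0,12]],
    [[2,2,1,4,3,1,0,0,2,3,3,2], [1,1,1,3,4,0,0,4,4,2,1,0], [3,3,4,3,3,3,0,3,0,2,2,2], [0,1,2,4,3,0,3,1,2,3,1,4], [3,1,2,2,1,0,1,2,2,2,0,4], [2,3,2,4,1,1,0,1,1,2,3,1], [3,2,1,1,4,3,0,0,3,3,2,2], [2,1,2,2,2,0,0,2,1,3,2,2], [1,3,1,1,2,3,2,0,1,3,4,0], [4,1,3,3,0,0,1,3,3,2,2,3], [1,2,4,4,0,1,1,1,3,2,4,1], [4,1,4,3,3,0,3,3,0,3,3,3]]),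
  ([[8,0,0], [0,8,0], [0,0,10]],
    [[2,4,1,2,0,0,4,2,1,3,0,2], [2,3,2,3,0,2,0,4,4,2,3,4], [1,4,4,3,2,3,0,2,0,1,4,2], [4,2,1,3,3,0,0,0,4,1,4,0], [0,3,3,3,4,2,2,3,1,3,0,2], [4,4,4,4,1,0,3,0,4,2,3,4], [1,1,4,4,4,2,3,4,4,1,4,0], [3,3,1,2,3,0,2,3,0,1,4,2], [3,1,4,3,1,3,3,2,2,1,2,4], [3,2,3,2,4,0,2,0,3,4,4,2], [4,1,1,2,2,0,3,2,2,3,3,2], [1,3,4,2,1,3,2,1,3,3,4,1]]),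
  ([[4,7,0], [13,14,0], [0,0,15]],
    [[0,1,0,2,3,0,1,0,2,1,4,3], [4,3,2,2,4,2,4,3,2,4,1,2], [0,2,3,4,0,0,2,1,3,2,1,1], [3,1,4,3,0,2,0,4,2,2,2,2], [4,2,2,1,0,3,0,1,4,4,1,1], [1,4,0,4,0,0,3,4,4,1,0,3], [4,3,3,1,2,0,4,0,0,2,0,3], [4,4,4,2,1,3,1,2,4,2,1,0], [3,3,3,4,1,0,4,1,1,2,3,1], [2,4,4,3,4,2,3,4,4,2,3,1], [2,1,1,3,1,0,2,0,4,4,4,4], [2,3,0,3,2,3,2,2,4,1,3,3]]),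
  ([[4,2,0], [3,5,0], [0,0,1]],
    [[3,1,0,0,4,0,2,0,3,0,2,1], [1,0,4,0,3,0,4,2,2,0,4,1], [0,0,3,0,0,0,2,0,3,0,0,0], [4,0,0,1,3,3,0,2,2,0,3,1], [1,0,4,0,3,0,4,0,2,3,4,1], [2,4,0,0,0,0,3,0,2,0,3,3], [0,0,2,0,0,0,4,0,1,0,0,0], [4,0,0,1,3,1,0,2,2,0,0,1], [0,0,0,0,0,0,4,0,3,0,0,0], [1,0,0,2,1,1,0,4,4,0,0,2], [1,1,0,0,3,0,4,0,1,0,4,4], [2,0,3,2,1,0,3,4,4,1,3,2]]),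
  ([[12,0,0], [0,12,0], [0,0,8]],
    [[0,1,0,3,0,3,2,3,4,2,0,3], [3,4,2,4,4,1,0,0,1,3,2,1], [0,4,3,1,3,0,4,3,0,4,1,3], [1,1,2,2,4,0,3,3,1,4,1,0], [4,1,3,4,0,1,4,1,1,2,1,2], [3,1,3,4,3,2,0,0,1,2,2,4], [3,1,2,1,3,0,1,1,4,1,3,4], [3,1,0,1,1,0,3,1,1,4,0,4], [1,4,2,1,1,0,3,1,2,1,0,4], [2,4,2,1,0,0,4,1,3,4,1,3], [2,4,0,4,1,2,3,0,0,2,3,4], [2,4,3,4,1,1,2,1,3,2,3,0]]),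
  ([[6,13,0], [2,9,0], [0,0,12]],
    [[4,4,4,4,4,0,0,2,3,1,2,1], [4,2,3,1,0,0,4,4,1,2,0,1], [3,2,2,4,3,4,1,4,4,1,2,0], [1,1,0,4,2,1,1,0,2,3,4,2], [2,3,3,1,1,0,2,4,3,2,2,1], [4,4,0,1,2,0,1,3,0,4,0,2], [4,2,3,1,4,1,2,1,3,4,1,2], [4,4,4,4,0,1,3,0,1,3,1,2], [0,2,2,2,2,1,1,0,0,1,0,3], [2,1,4,1,3,4,1,4,2,3,3,4], [0,4,0,1,0,0,1,1,2,1,4,3], [2,2,3,3,1,0,0,3,4,2,4,3]]),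
  ([[6,3,0], [11,14,0], [0,0,10]],
    [[3,2,3,4,2,1,3,1,2,2,2,0], [4,3,0,4,3,0,1,4,0,4,0,2], [4,2,2,1,2,2,0,0,4,3,1,3], [4,3,3,0,3,0,2,4,1,4,3,0], [2,3,2,1,4,0,3,3,4,4,4,4], [1,2,0,1,3,4,3,0,4,2,4,2], [4,3,3,0,1,2,0,2,3,2,1,3], [4,2,2,1,0,0,2,3,2,1,3,1], [3,2,3,0,4,2,1,2,2,2,2,2], [0,2,3,4,4,0,3,2,3,4,3,4], [1,2,2,4,1,1,0,0,1,3,4,3], [4,2,0,1,1,0,4,3,1,4,2,1]]),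
  ([[10,0,0], [0,10,0], [0,0,15]],
    [[3,4,2,0,4,2,3,2,4,2,2,0], [2,3,3,2,1,3,0,0,1,4,3,3], [2,1,4,1,2,0,1,1,2,1,2,2], [0,3,2,0,1,0,1,2,0,2,4,3], [0,2,2,2,1,3,2,3,0,1,0,1], [1,1,1,1,4,2,0,0,3,3,4,1], [4,4,1,1,4,0,4,3,2,4,0,0], [2,2,4,3,3,0,4,4,0,3,2,0], [0,1,1,1,1,0,3,3,3,4,4,0], [3,3,3,3,0,0,3,4,2,3,1,1], [1,1,2,4,3,3,1,0,4,2,4,4], [2,2,3,3,1,2,3,2,0,4,3,1]]),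
  ([[5,2,0], [3,4,0], [0,0,1]],
    [[3,0,2,2,4,0,2,1,1,3,2,3], [0,0,0,4,2,2,0,3,3,0,3,4], [0,0,3,0,0,0,1,0,0,0,0,0], [3,4,0,0,4,0,2,0,3,0,2,3], [0,0,0,3,4,3,0,1,1,0,3,3], [4,0,1,1,2,0,1,0,3,3,1,4], [0,0,4,0,0,0,4,0,3,0,0,0], [1,3,0,0,0,0,4,0,1,0,4,0], [0,0,3,0,0,0,3,0,3,0,0,0], [4,0,0,0,2,0,1,0,4,0,1,0], [4,0,1,3,2,0,1,3,3,3,1,4], [4,0,0,2,1,1,0,4,4,0,2,2]]),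
  ([[5,11,0], [7,9,0], [0,0,8]],
    [[4,2,2,1,1,4,1,4,4,3,1,1], [2,4,1,2,3,0,0,2,2,3,4,4], [4,1,4,3,3,0,3,4,4,2,4,4], [3,2,2,3,1,3,1,3,2,2,2,3], [2,4,2,3,1,0,1,3,4,2,2,0], [0,3,2,1,3,4,3,4,2,3,0,2], [3,1,1,2,4,0,0,1,3,3,4,1], [1,3,1,3,2,3,2,3,0,2,4,3], [0,1,4,2,0,0,3,2,2,2,2,3], [4,3,4,1,1,3,0,0,1,3,1,1], [4,3,3,1,0,4,1,0,3,2,1,1], [3,4,3,4,4,0,0,1,4,3,1,1]]),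
  ([[15,0,0], [0,15,0], [0,0,12]],
    [[4,1,2,0,1,0,1,3,1,3,3,0], [3,4,3,1,0,4,0,1,4,1,2,2], [2,1,3,0,3,2,0,4,3,4,3,3], [0,4,0,4,2,0,1,0,0,3,1,2], [1,4,2,1,4,4,2,3,3,4,4,0], [2,4,2,1,2,0,2,0,2,3,1,1], [2,4,3,4,4,3,1,2,0,4,3,1], [2,4,0,4,3,0,1,1,4,2,4,4], [1,4,3,0,2,2,1,4,2,4,4,2], [2,1,2,4,1,0,1,0,2,3,4,4], [3,4,2,0,4,0,3,3,4,3,4,0], [0,1,0,1,2,4,3,1,4,1,0,2]]),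
  ([[14,3,0], [11,6,0], [0,0,10]],
    [[4,4,1,4,2,0,4,2,2,1,0,2], [3,4,2,0,4,0,2,1,0,1,0,0], [4,3,1,3,0,1,3,0,4,4,1,1], [1,2,2,2,4,3,2,0,0,4,4,4], [0,1,2,0,1,0,2,1,0,1,3,0], [0,1,2,4,3,0,4,2,3,1,4,3], [2,3,4,2,2,4,1,0,2,1,3,0], [1,2,1,3,0,2,1,0,4,1,4,1], [0,3,1,0,1,4,3,4,3,4,0,3], [0,3,1,2,3,3,3,3,0,1,0,0], [2,4,2,1,3,0,0,1,1,1,4,4], [4,1,3,4,3,0,1,2,0,4,4,4]]),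
  ([[14,7,0], [13,4,0], [0,0,15]],
    [[3,3,4,1,0,4,4,0,4,2,2,1], [2,2,4,1,2,0,0,3,2,1,1,3], [4,4,2,3,2,0,0,3,4,3,3,1], [4,4,3,2,0,4,4,0,3,1,1,2], [2,2,0,4,1,0,1,2,3,4,0,1], [0,3,1,4,3,1,1,0,1,3,0,2], [0,4,3,2,1,0,1,2,0,2,3,4], [4,4,0,3,3,1,1,0,0,4,1,3], [1,4,2,2,4,0,0,1,2,3,2,0], [1,4,0,0,4,1,1,1,4,1,4,0], [3,2,1,1,1,4,4,4,2,3,2,1], [2,3,0,0,1,0,0,4,1,4,1,3]])]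

/-- The Weyl pair. -/
def wP : Raw := ([[7,5,0], [4,7,0], [0,0,1]],
    [[3,1,3,3,2,0,4,2,3,3,2,3], [1,2,1,1,3,2,4,2,3,0,3,3], [3,0,1,3,1,0,2,1,2,0,2,2], [4,0,3,4,1,4,3,4,2,2,3,2], [1,1,0,2,4,4,4,4,4,0,2,4], [2,2,0,4,4,0,2,1,1,4,3,1], [3,0,4,4,2,0,1,3,4,0,2,4], [1,0,3,3,3,3,3,3,1,4,3,1], [0,0,3,4,4,0,0,3,2,0,0,3], [0,0,4,2,0,1,3,0,0,2,3,0], [3,1,0,0,3,0,0,1,0,3,2,0], [1,2,0,0,0,3,4,0,3,0,0,2]])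

/-- The identity pair. -/
def oneP : Raw := ([[1,0,0], [0,1,0], [0,0,1]],
    [[1,0,0,0,0,0,0,0,0,0,0,0], [0,1,0,0,0,0,0,0,0,0,0,0], [0,0,1,0,0,0,0,0,0,0,0,0], [0,0,0,1,0,0,0,0,0,0,0,0], [0,0,0,0,1,0,0,0,0,0,0,0], [0,0,0,0,0,1,0,0,0,0,0,0], [0,0,0,0,0,0,1,0,0,0,0,0], [0,0,0,0,0,0,0,1,0,0,0,0], [0,0,0,0,0,0,0,0,1,0,0,0], [0,0,0,0,0,0,0,0,0,1,0,0], [0,0,0,0,0,0,0,0,0,0,1,0], [0,0,0,0,0,0,0,0,0,0,0,1]])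

/-- A unipotent pair. -/
def uP (e : ℕ) : Raw := uList.getD e oneP

/-- A torus pair. -/
def tP (i : ℕ) : Raw := tList.getD i oneP

/-- The table of products with the four generators. -/
def utabList : List (List ℕ) := [[1,2,3,4], [5,6,7,8], [9,10,11,12], [13,14,15,16], [17,18,19,5], [20,21,22,23], [2,24,25,26], [3,27,28,29], [30,31,32,20], [21,28,33,34], [24,35,36,30], [25,3,37,38], [31,4,39,21], [22,40,24,41], [27,36,21,42], [28,37,43,44], [45,38,4,22], [23,34,29,24], [26,30,46,37], [41,39,44,36], [0,9,13,47], [6,15,48,49], [7,50,10,51], [52,53,54,0], [15,55,56,52], [48,7,57,58], [53,8,59,9], [50,56,9,60], [10,57,61,17], [19,58,8,13], [47,12,51,15], [49,52,62,57], [16,59,17,56],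 [11,13,55,62], [18,47,60,6], [57,0,14,18], [61,11,5,54], [55,5,50,53], [59,54,12,48], [58,51,53,14], [14,61,6,59], [54,62,47,7], [62,16,18,50], [56,48,0,19], [8,49,16,10], [51,60,52,61], [60,19,49,11], [44,63,45,1], [33,22,35,46], [63,23,42,2], [40,43,2,39], [32,46,23,3], [4,26,41,28], [34,44,38,35], [29,42,30,43], [35,1,27,31], [36,25,20,45], [37,20,40,63], [42,45,26,33], [46,41,63,27], [38,29,31,40], [43,33,1,32], [39,32,34,25], [12,17,58,55]]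

/-- Parents. -/
def parList : List (List ℕ) := [[0,0], [0,0], [0,1], [0,2], [0,3], [1,0], [1,1], [1,2], [1,3], [2,0], [2,1], [2,2], [2,3], [3,0], [3,1], [3,2], [3,3], [4,0], [4,1], [4,2], [5,0], [5,1], [5,2], [5,3], [6,1], [6,2], [6,3], [7,1], [7,2], [7,3], [8,0], [8,1], [8,2], [9,2], [9,3], [10,1], [10,2], [11,2], [11,3], [12,2], [13,1], [13,3], [14,3], [15,2], [15,3], [16,0], [18,2], [20,3], [21,2], [21,3], [22,1], [22,3], [23,0], [23,1], [23,2], [24,1], [24,2], [25,2], [25,3], [26,2], [27,3], [28,2], [31,2], [47,1]]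

/-- Images of the generators under the torus. -/
def txList : List ℕ := [63,61,18,27]

/-- Products through the Weyl pair. -/
def wuList : List (List ℕ) := [[0,0,0], [47,11,38], [63,9,27], [17,3,48], [22,11,47], [5,0,5], [27,9,45], [60,1,12], [42,3,43], [58,2,51], [15,10,15], [12,1,19], [11,14,7], [46,12,14], [43,3,13], [10,5,10], [57,7,32], [3,12,46], [21,13,26], [36,14,11], [39,14,52], [18,2,44], [4,4,54], [52,14,36], [32,7,31], [35,9,55], [28,2,18], [6,6,2], [26,13,41], [55,9,63], [37,7,40], [53,8,24], [24,8,16], [44,2,58], [45,9,35], [25,6,34], [19,1,23], [30,8,53], [59,4,1], [20,1,60], [62,8,30], [51,2,28], [8,12,56], [14,12,8], [33,13,21], [34,6,6], [13,3,17], [1,4,4], [56,12,3],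 [61,11,50], [54,4,49], [41,13,9], [23,1,20], [31,7,37], [50,11,22], [29,6,25], [48,3,42], [16,8,62], [9,13,33], [38,11,61], [7,14,39], [49,4,59], [40,7,57], [2,6,29]]

/-- A product with a generator. -/
def utab (e j : ℕ) : ℕ := ent utabList e j

/-- A parent. -/
def par (e : ℕ) : ℕ := ent parList e 0

/-- The letter at an element. -/
def parGen (e : ℕ) : ℕ := ent parList e 1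

/-- The data of a product through the Weyl pair. -/
def wu (e k : ℕ) : ℕ := ent wuList e k

end Cfsg.Agent.U34
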