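import Mathlib

/-!
# A computable field with sixteen elements
-/

set_option autoImplicit false

namespace Cfsg.Agent.U34

/-- Multiplication by `x` modulo `x⁴ + x + 1`, on bit patterns. -/
def mulX (a : ℕ) : ℕ := if a < 8 then 2 * a else Nat.xor (2 * a) 19

/-- The product of two bit patterns modulo `x⁴ + x + 1`. -/
def mulNat (a b : ℕ) : ℕ :=
  Nat.xor (Nat.xor (if a % 2 = 1 then b else 0) (if a / 2 % 2 = 1 then mulX b else 0))
    (Nat.xor (if a / 4 % 2 = 1 then mulX (mulX b) else 0) (if a / 8 % 2 = 1 then mulX (mulX (mulX b)) else 0))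

/-- Sum of two patterns below sixteen. -/
def addK (a b : ℕ) : ℕ := Nat.xor (a % 16) (b % 16) % 16

/-- Product of two patterns below sixteen. -/
def mulK (a b : ℕ) : ℕ := mulNat (a % 16) (b % 16) % 16

/-- Sixteen elements. -/
structure K16 where
  v : Fin 16
deriving DecidableEq

/-- The element of a pattern. -/
def ofNatK (a : ℕ) : K16 := ⟨⟨a % 16, Nat.mod_lt _ (by decide)⟩⟩

instance : Fintype K16 := Fintype.ofEquiv (Fin 16) ⟨K16.mk, K16.v, fun _ => rfl, fun _ => rfl⟩

instance : Zero K16 := ⟨⟨0⟩⟩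
instance : One K16 := ⟨⟨1⟩⟩
instance : Add K16 := ⟨fun a b => ofNatK (addK a.v b.v)⟩
instance : Mul K16 := ⟨fun a b => ofNatK (mulK a.v b.v)⟩
instance : Neg K16 := ⟨fun a => a⟩

/-- The inverse, as the fourteenth power. -/
def invK (a : K16) : K16 :=
  let a2 := a * a
  let a4 := a2 * a2
  let a8 := a4 * a4
  a8 * a4 * a2

instance : Inv K16 := ⟨invK⟩

theorem mk_forall {P : K16 → Prop} (h : ∀ i : Fin 16, P ⟨i⟩) : ∀ a, P a := fun a => h a.v

theorem k16_add_assoc : ∀ a b c : K16, a + b + c = a + (b + c) :=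
  mk_forall fun i => mk_forall fun j => mk_forall fun k => by revert i j k; decide +kernel

theorem k16_mul_assoc : ∀ a b c : K16, a * b * c = a * (b * c) :=
  mk_forall fun i => mk_forall fun j => mk_forall fun k => by revert i j k; decide +kernel

theorem k16_mul_add : ∀ a b c : K16, a * (b + c) = a * b + a * c :=
  mk_forall fun i => mk_forall fun j => mk_forall fun k => by revert i j k; decide +kernel

theorem k16_add_comm : ∀ a b : K16, a + b = b + a :=
  mk_forall fun i => mk_forall fun j => by revert i j; decide +kernel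

theorem k16_mul_comm : ∀ a b : K16, a * b = b * a :=
  mk_forall fun i => mk_forall fun j => by revert i j; decide +kernel

theorem k16_unit : ∀ a : K16, 0 + a = a ∧ a + 0 = a ∧ 1 * a = a ∧ a * 1 = a ∧ 0 * a = 0 ∧ a * 0 = 0 ∧ -a + a = 0 :=
  mk_forall fun i => by revert i; decide +kernel

theorem k16_inv : ∀ a : K16, (a ≠ 0 → a * a⁻¹ = 1) :=
  mk_forall fun i => by revert i; decide +kernel

instance instFieldK16 : Field K16 where
  add_assoc := k16_add_assoc
  zero_add a := (k16_unit a).1
  add_zero a := (k16_unit a).2.1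
  add_comm := k16_add_comm
  mul_assoc := k16_mul_assoc
  one_mul a := (k16_unit a).2.2.1
  mul_one a := (k16_unit a).2.2.2.1
  zero_mul a := (k16_unit a).2.2.2.2.1
  mul_zero a := (k16_unit a).2.2.2.2.2.1
  neg_add_cancel a := (k16_unit a).2.2.2.2.2.2
  left_distrib := k16_mul_add
  right_distrib a b c := by rw [k16_mul_comm, k16_mul_add, k16_mul_comm c a, k16_mul_comm c b]
  mul_comm := k16_mul_comm
  nsmul := nsmulRec
  zsmul := zsmulRec
  exists_pair_ne := ⟨0, 1, by decide +kernel⟩
  mul_inv_cancel := k16_inv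
  inv_zero := by decide +kernel
  nnqsmul := _
  qsmul := _

theorem card_K16 : Fintype.card K16 = 16 := rfl

theorem ofNatK_zero : ofNatK 0 = 0 := rfl

theorem ofNatK_add (a b : ℕ) : ofNatK (addK a b) = ofNatK a + ofNatK b := by
  show _ = ofNatK (addK (a % 16) (b % 16))
  simp only [addK, Nat.mod_mod]

theorem ofNatK_mul (a b : ℕ) : ofNatK (mulK a b) = ofNatK a * ofNatK b := by
  show _ = ofNatK (mulK (a % 16) (b % 16))
  simp only [mulK, Nat.mod_mod]

end Cfsg.Agent.U34
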