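import Cfsg.Agent.Lib.U34.ChecksU
import Cfsg.Agent.Lib.U34.ChecksW
import Cfsg.Agent.Lib.U34.ChecksG
import Cfsg.Agent.Lib.LocalEvenA.ModUnitary
import Cfsg.Agent.Lib.LinearGroups.UnitaryOrder
import Cfsg.Prelude.Def_Classical

/-!
# A twelve-dimensional representation of `SU₃(4)` over five elements
-/

set_option autoImplicit false

namespace Cfsg.Agent.U34

open scoped Matrix

theorem beq_all {n m : ℕ} {p : ℕ → Bool} (h : (List.range' n m).all p = true) {e : ℕ} (h1 : n ≤ e) (h2 : e < n + m) :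
    p e = true := List.all_eq_true.1 h e (List.mem_range'_1.2 ⟨h1, h2⟩)

theorem range_all {n : ℕ} {p : ℕ → Bool} (h : (List.range n).all p = true) {e : ℕ} (h2 : e < n) : p e = true :=
  List.all_eq_true.1 h e (List.mem_range.2 h2)

theorem ev_one : ev oneP = 1 := by
  have h1 : evG oneP.1 = 1 := by decide +kernel
  have h2 : evR oneP.2 = 1 := by decide +kernel
  exact Prod.ext h1 h2

theorem ev_eq {a b : Raw} (h : (a == b) = true) : ev a = ev b := by rw [eq_of_beq h]

theorem uP_zero : ev (uP 0) = 1 ∧ ev (tP 0) = 1 := by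
  have h := check_one
  rw [Bool.and_eq_true] at h
  exact ⟨(ev_eq h.1).trans ev_one, (ev_eq h.2).trans ev_one⟩

/-- A unipotent element. -/
def U (e : ℕ) : Mon := ev (uP e)

/-- The torus element. -/
def T : Mon := ev (tP 1)

/-- The Weyl element. -/
def W : Mon := ev wP

theorem U_mul_gen {e j : ℕ} (he : e < 64) (hj : j < 4) : U e * U (j + 1) = U (utab e j) ∧ utab e j < 64 := by
  have h : ((List.range 4).all fun j => mulP (uP e) (uP (j + 1)) == uP (utab e j) && utab e j < 64) = true := by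
    rcases (show e < 16 ∨ (16 ≤ e ∧ e < 32) ∨ (32 ≤ e ∧ e < 48) ∨ (48 ≤ e ∧ e < 64) by omega) with h | h | h | h
    · exact beq_all check_utab_0 (Nat.zero_le e) (by omega)
    · exact beq_all check_utab_1 h.1 (by omega)
    · exact beq_all check_utab_2 h.1 (by omega)
    · exact beq_all check_utab_3 h.1 (by omega)
  have h2 := range_all h hj
  rw [Bool.and_eq_true, decide_eq_true_eq] at h2
  exact ⟨by rw [U, U, U, ← ev_mulP]; exact ev_eq h2.1, h2.2⟩

/-- The unipotent monoid. -/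
def UM : Submonoid Mon := Submonoid.closure {x | ∃ j < 4, x = U (j + 1)}

theorem gen_mem {j : ℕ} (hj : j < 4) : U (j + 1) ∈ UM := Submonoid.subset_closure ⟨j, hj, rfl⟩

theorem mem_UM_iff {x : Mon} : x ∈ UM ↔ ∃ e < 64, x = U e := by
  constructor
  · intro hx
    induction hx using Submonoid.closure_induction_right with
    | one => exact ⟨0, by omega, uP_zero.1.symm⟩
    | mul_right x _ y hy ih =>
      obtain ⟨e, he, rfl⟩ := ih
      obtain ⟨j, hj, rfl⟩ := hy
      obtain ⟨h1, h2⟩ := U_mul_gen he hj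
      exact ⟨_, h2, h1⟩
  · rintro ⟨e, he, rfl⟩
    induction e using Nat.strong_induction_on with
    | _ e ih =>
      rcases Nat.eq_zero_or_pos e with rfl | h0
      · rw [U, uP_zero.1]; exact UM.one_mem
      have h := beq_all check_par h0 (by omega)
      rw [Bool.and_eq_true, Bool.and_eq_true, decide_eq_true_eq, decide_eq_true_eq, beq_iff_eq] at h
      obtain ⟨⟨h1, h2⟩, h3⟩ := h
      rw [← h3, ← (U_mul_gen (by omega) h2).1]
      exact UM.mul_mem (ih _ h1 (by omega)) (gen_mem h2)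

theorem tP_succ {i : ℕ} (hi : i < 15) : ev (tP i) * T = ev (tP ((i + 1) % 15)) := by
  rw [T, ← ev_mulP]; exact ev_eq (range_all check_tpow hi)

theorem tP_eq : ∀ i, i < 15 → ev (tP i) = T ^ i
  | 0, _ => by rw [pow_zero, uP_zero.2]
  | i + 1, hi => by
      rw [pow_succ, ← tP_eq i (by omega), tP_succ (by omega), Nat.mod_eq_of_lt hi]

theorem T_pow : T ^ 15 = 1 := by
  rw [show (15 : ℕ) = 14 + 1 from rfl, pow_succ, ← tP_eq 14 (by omega), tP_succ (by omega)]
  exact uP_zero.2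

theorem T_conj {x : Mon} (hx : x ∈ UM) : ∃ y ∈ UM, T * x = y * T := by
  induction hx using Submonoid.closure_induction with
  | mem x hx =>
    obtain ⟨j, hj, rfl⟩ := hx
    have h := range_all check_tor hj
    rw [Bool.and_eq_true, decide_eq_true_eq] at h
    refine ⟨U (txList.getD j 0), mem_UM_iff.2 ⟨_, h.2, rfl⟩, ?_⟩
    rw [U, U, T, ← ev_mulP, ← ev_mulP]
    exact ev_eq h.1
  | one => exact ⟨1, UM.one_mem, by simp⟩
  | mul a b _ _ iha ihb =>
    obtain ⟨a', ha', ea⟩ := iha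
    obtain ⟨b', hb', eb⟩ := ihb
    exact ⟨a' * b', UM.mul_mem ha' hb', by rw [← mul_assoc, ea, mul_assoc, eb, mul_assoc]⟩

theorem Tn_conj : ∀ (n : ℕ) {x : Mon}, x ∈ UM → ∃ y ∈ UM, T ^ n * x = y * T ^ n
  | 0, x, hx => ⟨x, hx, by simp⟩
  | n + 1, x, hx => by
      obtain ⟨y, hy, e⟩ := T_conj hx
      obtain ⟨z, hz, e'⟩ := Tn_conj n hy
      exact ⟨z, hz, by rw [pow_succ, mul_assoc, e, ← mul_assoc, e', mul_assoc]⟩

theorem conj_T {x : Mon} (hx : x ∈ UM) : ∃ y ∈ UM, x * T = T * y := by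
  obtain ⟨y, hy, e⟩ := Tn_conj 14 hx
  refine ⟨y, hy, ?_⟩
  calc x * T = T ^ 15 * x * T := by rw [T_pow, one_mul]
    _ = T * (T ^ 14 * x) * T := by rw [pow_succ', mul_assoc T]
    _ = T * y * T ^ 15 := by rw [e, pow_succ (n := 14)]; simp only [mul_assoc]
    _ = T * y := by rw [T_pow, mul_one]

theorem W_T : W * T = T ^ 11 * W ∧ W * W = 1 := by
  have h := check_wt
  rw [Bool.and_eq_true] at h
  refine ⟨?_, ?_⟩
  · rw [← tP_eq 11 (by omega), W, T, ← ev_mulP, ← ev_mulP]
    exact ev_eq h.1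
  · rw [W, ← ev_mulP]
    exact (ev_eq h.2).trans ev_one

theorem W_U_W {e : ℕ} (he : e < 64) (h0 : e ≠ 0) :
    ∃ a ∈ UM, ∃ n, ∃ b ∈ UM, W * U e * W = a * T ^ n * W * b := by
  have h : wuOk e = true := by
    rcases (show (1 ≤ e ∧ e < 17) ∨ (17 ≤ e ∧ e < 33) ∨ (33 ≤ e ∧ e < 49) ∨ (49 ≤ e ∧ e < 64) by omega) with h | h | h | h
    · exact beq_all check_wu_0 h.1 (by omega)
    · exact beq_all check_wu_1 h.1 (by omega)
    · exact beq_all check_wu_2 h.1 (by omega)
    · exact beq_all check_wu_3 h.1 (by omega)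
  rw [wuOk, Bool.and_eq_true, Bool.and_eq_true, decide_eq_true_eq, decide_eq_true_eq] at h
  obtain ⟨⟨h1, h2⟩, h3⟩ := h
  refine ⟨U (wu e 0), mem_UM_iff.2 ⟨_, h2, rfl⟩, ?_⟩
  have hT : ∃ n, ev (tP (wu e 1)) = T ^ n := by
    by_cases hi : wu e 1 < 15
    · exact ⟨_, tP_eq _ hi⟩
    · refine ⟨0, ?_⟩
      rw [pow_zero, tP, List.getD_eq_default _ _ (by simp [tList]; omega), ev_one]
  obtain ⟨n, hn⟩ := hT
  refine ⟨n, U (wu e 2), mem_UM_iff.2 ⟨_, h3, rfl⟩, ?_⟩
  rw [← hn, U, U, U, W, ← ev_mulP, ← ev_mulP, ← ev_mulP, ← ev_mulP, ← ev_mulP]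
  exact ev_eq h1

/-- The monoid of the pairs. -/
def Γ : Submonoid Mon := Submonoid.closure ({x | ∃ j < 4, x = U (j + 1)} ∪ {T, W})

theorem UM_le : UM ≤ Γ := Submonoid.closure_mono Set.subset_union_left

theorem T_mem : T ∈ Γ := Submonoid.subset_closure (Or.inr (Or.inl rfl))

theorem W_mem : W ∈ Γ := Submonoid.subset_closure (Or.inr (Or.inr rfl))

/-- The two cells. -/
def cells : Set Mon :=
  {x | (∃ a ∈ UM, ∃ n, x = a * T ^ n) ∨ ∃ a ∈ UM, ∃ n, ∃ b ∈ UM, x = a * T ^ n * W * b}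

theorem Γ_sub : ∀ x ∈ Γ, x ∈ cells := by
  intro x hx
  induction hx using Submonoid.closure_induction_right with
  | one => exact Or.inl ⟨1, UM.one_mem, 0, by simp⟩
  | mul_right x _ y hy ih =>
    rcases ih with ⟨a, ha, n, rfl⟩ | ⟨a, ha, n, b, hb, rfl⟩
    · rcases hy with ⟨j, hj, rfl⟩ | rfl | rfl
      · obtain ⟨y, hy, e⟩ := Tn_conj n (gen_mem hj)
        exact Or.inl ⟨a * y, UM.mul_mem ha hy, n, by rw [mul_assoc, e, mul_assoc]⟩
      · exact Or.inl ⟨a, ha, n + 1, by rw [pow_succ, mul_assoc]⟩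
      · exact Or.inr ⟨a, ha, n, 1, UM.one_mem, by rw [mul_one]⟩
    · rcases hy with ⟨j, hj, rfl⟩ | rfl | rfl
      · exact Or.inr ⟨a, ha, n, b * U (j + 1), UM.mul_mem hb (gen_mem hj), by rw [mul_assoc (a * T ^ n * W)]⟩
      · obtain ⟨b', hb', e⟩ := conj_T hb
        refine Or.inr ⟨a, ha, n + 11, b', hb', ?_⟩
        calc a * T ^ n * W * b * T = a * T ^ n * (W * T) * b' := by simp only [mul_assoc]; rw [e]
          _ = a * T ^ (n + 11) * W * b' := by rw [W_T.1, pow_add]; simp only [mul_assoc]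
      · obtain ⟨e, he, rfl⟩ := mem_UM_iff.1 hb
        rcases Nat.eq_zero_or_pos e with rfl | h0
        · refine Or.inl ⟨a, ha, n, ?_⟩
          rw [U, uP_zero.1, mul_one, mul_assoc _ W W, W_T.2, mul_one]
        obtain ⟨a', ha', m, b', hb', eq⟩ := W_U_W he (by omega)
        obtain ⟨a'', ha'', e'⟩ := Tn_conj n ha'
        refine Or.inr ⟨a * a'', UM.mul_mem ha ha'', n + m, b', hb', ?_⟩
        calc a * T ^ n * W * U e * W = a * T ^ n * (W * U e * W) := by simp only [mul_assoc]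
          _ = a * (T ^ n * a') * T ^ m * W * b' := by rw [eq]; simp only [mul_assoc]
          _ = a * a'' * T ^ (n + m) * W * b' := by rw [e', pow_add]; simp only [mul_assoc]

/-- The parametrisation of the cells. -/
def cellMap : (Fin 64 × Fin 15) ⊕ (Fin 64 × Fin 15 × Fin 64) → Mon
  | .inl (a, n) => U a * T ^ (n : ℕ)
  | .inr (a, n, b) => U a * T ^ (n : ℕ) * W * U b

theorem card_Γ : (Γ : Set Mon).Finite ∧ (Γ : Set Mon).ncard ≤ 62400 := by
  have hsub : (Γ : Set Mon) ⊆ Set.range cellMap := by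
    intro x hx
    have hm : ∀ n, T ^ n = T ^ (n % 15) := fun n => pow_eq_pow_mod n T_pow
    rcases Γ_sub x hx with ⟨a, ha, n, rfl⟩ | ⟨a, ha, n, b, hb, rfl⟩
    · obtain ⟨e, he, rfl⟩ := mem_UM_iff.1 ha
      exact ⟨.inl (⟨e, he⟩, ⟨n % 15, Nat.mod_lt _ (by omega)⟩), by rw [hm n]; rfl⟩
    · obtain ⟨e, he, rfl⟩ := mem_UM_iff.1 ha
      obtain ⟨f, hf, rfl⟩ := mem_UM_iff.1 hb
      exact ⟨.inr (⟨e, he⟩, ⟨n % 15, Nat.mod_lt _ (by omega)⟩, ⟨f, hf⟩), by rw [hm n]; rfl⟩
  refine ⟨(Set.finite_range _).subset hsub, (Set.ncard_le_ncard hsub (Set.finite_range _)).trans ?_⟩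
  rw [← Nat.card_coe_set_eq]
  exact (Finite.card_range_le _).trans (by simp)

theorem k16_four_add : ∀ a b : K16, (a + b) ^ 4 = a ^ 4 + b ^ 4 :=
  mk_forall fun i => mk_forall fun j => by revert i j; decide +kernel

theorem ofNatK_four (a : ℕ) : ofNatK (fourK a) = ofNatK a ^ 4 := by
  rw [fourK, ofNatK_mul, ofNatK_mul]; ring

theorem evG_mem_SU {A : List (List ℕ)} (h : isUnitary A = true) :
    ∃ g : ↥(Cfsg.SU 3 K16 4), ((g : Matrix.SpecialLinearGroup (Fin 3) K16) : Matrix (Fin 3) (Fin 3) K16) = evG A := by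
  rw [isUnitary, Bool.and_eq_true] at h
  obtain ⟨h1, h2⟩ := h
  have hd : (evG A).det = 1 := by
    have e := congrArg ofNatK (beq_iff_eq.1 h2)
    simp only [ofNatK_add, ofNatK_mul] at e
    rw [Matrix.det_fin_three, show (1 : K16) = ofNatK 1 from rfl, ← e]
    have hneg : ∀ x : K16, -x = x := fun x => rfl
    simp only [evG, Matrix.of_apply, Fin.val_zero, Fin.val_one, Fin.val_two, sub_eq_add_neg, hneg]
    ring
  have hcol : ∀ i j : Fin 3, (∑ k : Fin 3, evG A k i * evG A k j ^ 4) = if i = j then 1 else 0 := by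
    intro i j
    have e := congrArg ofNatK (beq_iff_eq.1 (range_all (range_all h1 i.isLt) j.isLt))
    rw [map_foldTo addK ofNatK ofNatK_zero ofNatK_add,
      Finset.sum_range (fun k => ofNatK (mulK (ent A k i) (fourK (ent A k j))))] at e
    rw [show (∑ k : Fin 3, evG A k i * evG A k j ^ 4) =
      ∑ k : Fin 3, ofNatK (mulK (ent A k i) (fourK (ent A k j))) from
        Finset.sum_congr rfl fun k _ => by rw [ofNatK_mul, ofNatK_four]; rfl, e]
    by_cases hij : i = j
    · rw [if_pos hij, if_pos (congrArg Fin.val hij)]; rfl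
    · rw [if_neg hij, if_neg (fun h => hij (Fin.ext h))]; rfl
  refine ⟨⟨⟨evG A, hd⟩, fun u v => ?_⟩, rfl⟩
  show Cfsg.hermForm 3 K16 4 (evG A *ᵥ u) (evG A *ᵥ v) = Cfsg.hermForm 3 K16 4 u v
  simp only [Cfsg.hermForm, Matrix.mulVec, dotProduct, Fin.sum_univ_three, k16_four_add, mul_pow]
  have c := hcol
  simp only [Fin.sum_univ_three] at c
  have c00 := c 0 0; have c01 := c 0 1; have c02 := c 0 2
  have c10 := c 1 0; have c11 := c 1 1; have c12 := c 1 2
  have c20 := c 2 0; have c21 := c 2 1; have c22 := c 2 2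
  simp at c00 c01 c02 c10 c11 c12 c20 c21 c22
  linear_combination (u 0 * v 0 ^ 4) * c00 + (u 0 * v 1 ^ 4) * c01 + (u 0 * v 2 ^ 4) * c02 +
    (u 1 * v 0 ^ 4) * c10 + (u 1 * v 1 ^ 4) * c11 + (u 1 * v 2 ^ 4) * c12 +
    (u 2 * v 0 ^ 4) * c20 + (u 2 * v 1 ^ 4) * c21 + (u 2 * v 2 ^ 4) * c22

/-- The inclusion into the matrices. -/
def incl : ↥(Cfsg.SU 3 K16 4) →* Matrix (Fin 3) (Fin 3) K16 :=
  (Cfsg.slToMat 3 K16).comp (Cfsg.SU 3 K16 4).subtype

theorem incl_injective : Function.Injective incl := fun _ _ h => Subtype.ext (Subtype.ext h)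

theorem card_G : Nat.card ↥(Cfsg.SU 3 K16 4) = 62400 := by
  haveI : AutPSU.QField K16 4 := AutPSU.QField.of_card (by rw [card_K16]; norm_num)
  rw [LocalEvenA.UThree.card_su3 (F := K16) (q := 4)]
  all_goals norm_num

/-- The first vector of the frame. -/
def e0 : Fin 3 → K16 := ![1, 1, 0]

theorem evG_e0 (A : List (List ℕ)) (i : Fin 3) : (evG A *ᵥ e0) i = ofNatK ((vecE A).getD i 0) := by
  have : (vecE A).getD i 0 = addK (ent A i 0) (ent A i 1) := by
    simp [vecE, List.getD_eq_getElem?_getD, i.isLt]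
  rw [this, ofNatK_add]
  simp [e0, Matrix.mulVec, dotProduct, Fin.sum_univ_three, evG]

theorem Γ_fst_sub : ∀ x ∈ Γ, x.1 ∈ Set.range incl := by
  intro x hx
  have h := check_gens
  simp only [Bool.and_eq_true] at h
  obtain ⟨⟨⟨⟨⟨h1, h2⟩, h3⟩, h4⟩, h5⟩, h6⟩ := h
  induction hx using Submonoid.closure_induction with
  | mem x hx =>
    rcases hx with ⟨j, hj, rfl⟩ | rfl | rfl
    · interval_cases j
      exacts [evG_mem_SU h1, evG_mem_SU h2, evG_mem_SU h3, evG_mem_SU h4]
    · exact evG_mem_SU h5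
    · exact evG_mem_SU h6
  | one => exact ⟨1, map_one _⟩
  | mul a b _ _ iha ihb =>
    obtain ⟨g, hg⟩ := iha
    obtain ⟨g', hg'⟩ := ihb
    exact ⟨g * g', by rw [map_mul, hg, hg']; rfl⟩

/-- An element of each coset of the point stabiliser. -/
def rep (k : ℕ) : Mon := if k = 0 then 1 else U (k - 1) * W

theorem rep_fst (k : ℕ) : (rep k).1 = evG (repG k) := by
  unfold rep repG
  split_ifs
  · rw [← ev_one]; rfl
  · rw [evG_mul]; rfl

theorem many : 62400 ≤ (Prod.fst '' (Γ : Set Mon)).ncard := by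
  classical
  let f : Fin 65 × Fin 64 × Fin 15 → Matrix (Fin 3) (Fin 3) K16 := fun q => (rep q.1 * U q.2.1 * T ^ (q.2.2 : ℕ)).1
  have hmem : ∀ q, f q ∈ Prod.fst '' (Γ : Set Mon) := by
    intro q
    refine ⟨_, Γ.mul_mem (Γ.mul_mem ?_ (UM_le (mem_UM_iff.2 ⟨_, q.2.1.isLt, rfl⟩))) (Γ.pow_mem T_mem _), rfl⟩
    unfold rep
    split_ifs
    · exact Γ.one_mem
    · exact Γ.mul_mem (UM_le (mem_UM_iff.2 ⟨_, by have := q.1.isLt; omega, rfl⟩)) W_mem
  have hU : ∀ e < 64, evG (uP e).1 *ᵥ e0 = e0 := by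
    intro e he
    funext i
    rw [evG_e0, eq_of_beq (range_all check_fix he)]
    fin_cases i <;> rfl
  let lam : ℕ → K16 := fun n => ofNatK ((vecE (tP n).1).getD 0 0)
  have hT : ∀ n < 15, evG (tP n).1 *ᵥ e0 = lam n • e0 := by
    intro n hn
    funext i
    have h := range_all check_scal hn
    rw [Bool.and_eq_true] at h
    rw [evG_e0, eq_of_beq h.1]
    fin_cases i <;> simp [lam, e0, ofNatK_zero]
  have hlam : ∀ n < 15, ∀ m < n, lam n ≠ lam m := by
    intro n hn m hm heq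
    have h := range_all check_scal hn
    rw [Bool.and_eq_true] at h
    have h' := range_all h.2 hm
    have hb : ∀ n, n < 15 → (vecE (tP n).1).getD 0 0 < 16 := by
      intro n hn
      simp [vecE, List.getD_eq_getElem?_getD, addK]
      exact Nat.mod_lt _ (by omega)
    have e := congrArg (fun x : K16 => (x.v : ℕ)) heq
    simp only [lam, ofNatK] at e
    rw [Nat.mod_eq_of_lt (hb n hn), Nat.mod_eq_of_lt (hb m (by omega))] at e
    rw [e] at h'
    simp at h'
  have hl0 : ∀ n < 15, lam n ≠ 0 := by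
    intro n hn h
    have h1 := hT n hn
    obtain ⟨g, hg⟩ := Γ_fst_sub (T ^ n) (Γ.pow_mem T_mem n)
    rw [← tP_eq n hn] at hg
    change incl g = evG (tP n).1 at hg
    rw [← hg, h, zero_smul] at h1
    have h2 := congrArg (fun v => incl g⁻¹ *ᵥ v) h1
    simp only [Matrix.mulVec_mulVec, ← map_mul, inv_mul_cancel, map_one, Matrix.one_mulVec, Matrix.mulVec_zero] at h2
    exact one_ne_zero (congrFun h2 0)
  have he0 : ∀ q, f q *ᵥ e0 = lam q.2.2 • (evG (repG q.1) *ᵥ e0) := by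
    intro q
    show (rep q.1 * U q.2.1 * T ^ (q.2.2 : ℕ)).1 *ᵥ e0 = _
    rw [← tP_eq _ q.2.2.isLt, Prod.fst_mul, Prod.fst_mul, ← Matrix.mulVec_mulVec, ← Matrix.mulVec_mulVec]
    show (rep q.1).1 *ᵥ (evG (uP q.2.1).1 *ᵥ (evG (tP q.2.2).1 *ᵥ e0)) = _
    rw [hT _ q.2.2.isLt, Matrix.mulVec_smul, hU _ q.2.1.isLt, Matrix.mulVec_smul, rep_fst]
  have hinj : Function.Injective f := by
    rintro ⟨k, e, n⟩ ⟨k', e', n'⟩ hq
    have h := (he0 (k, e, n)).symm.trans ((congrArg (· *ᵥ e0) hq).trans (he0 (k', e', n')))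
    simp only at h
    have hk : k = k' := by
      by_contra hne
      have hlt : ∀ (a b : Fin 65) (x y : K16), b.val < a.val → x ≠ 0 → y ≠ 0 →
          x • (evG (repG a) *ᵥ e0) = y • (evG (repG b) *ᵥ e0) → False := by
        intro a b x y hab hx hy heq
        have hc := range_all (range_all check_cosets a.isLt) hab
        rw [Bool.not_eq_true', propVec] at hc
        have : ((List.range 3).all fun i => (List.range 3).all fun j =>
            mulK ((vecE (repG a)).getD i 0) ((vecE (repG b)).getD j 0) ==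
              mulK ((vecE (repG a)).getD j 0) ((vecE (repG b)).getD i 0)) = true := by
          refine List.all_eq_true.2 fun i hi => List.all_eq_true.2 fun j hj => beq_iff_eq.2 ?_
          rw [List.mem_range] at hi hj
          have ei := congrFun heq ⟨i, hi⟩
          have ej := congrFun heq ⟨j, hj⟩
          simp only [Pi.smul_apply, evG_e0, smul_eq_mul] at ei ej
          have hm : ofNatK (mulK ((vecE (repG a)).getD i 0) ((vecE (repG b)).getD j 0)) =
              ofNatK (mulK ((vecE (repG a)).getD j 0) ((vecE (repG b)).getD i 0)) := by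
            rw [ofNatK_mul, ofNatK_mul]
            apply mul_left_cancel₀ hx
            rw [← mul_assoc, ← mul_assoc, ei, ej]
            ring
          have e := congrArg (fun x : K16 => (x.v : ℕ)) hm
          simpa [ofNatK, mulK] using e
        rw [this] at hc
        exact Bool.noConfusion hc
      rcases lt_or_gt_of_ne (fun h' => hne (Fin.ext h')) with hl | hl
      · exact hlt k' k _ _ hl (hl0 _ n'.isLt) (hl0 _ n.isLt) h.symm
      · exact hlt k k' _ _ hl (hl0 _ n.isLt) (hl0 _ n'.isLt) h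
    subst hk
    obtain ⟨g, hg⟩ := Γ_fst_sub (rep k) (by
      unfold rep
      split_ifs
      · exact Γ.one_mem
      · exact Γ.mul_mem (UM_le (mem_UM_iff.2 ⟨_, by have := k.isLt; omega, rfl⟩)) W_mem)
    have hcancel : ∀ {α : Type} (act : Matrix (Fin 3) (Fin 3) K16 → α → α) (one : ∀ a, act 1 a = a)
        (mul : ∀ A B a, act (A * B) a = act A (act B a)) (x y : α), act (rep k).1 x = act (rep k).1 y → x = y := by
      intro α act one mul x y hxy
      have := congrArg (act (incl g⁻¹)) hxy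
      rwa [← hg, ← mul, ← mul, ← map_mul, inv_mul_cancel, map_one, one, one] at this
    have hn : n = n' := by
      have h' : lam n • e0 = lam n' • e0 := by
        refine hcancel (fun A v => A *ᵥ v) Matrix.one_mulVec (fun A B v => (Matrix.mulVec_mulVec v A B).symm) _ _ ?_
        rw [Matrix.mulVec_smul, Matrix.mulVec_smul, rep_fst]
        exact h
      have hl : lam n = lam n' := by simpa [e0] using congrFun h' 0
      by_contra hne
      rcases lt_or_gt_of_ne (fun h' => hne (Fin.ext h')) with hl' | hl'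
      · exact hlam _ n'.isLt _ hl' hl.symm
      · exact hlam _ n.isLt _ hl' hl
    subst hn
    have h1 : (U e * T ^ (n : ℕ)).1 = (U e' * T ^ (n : ℕ)).1 := by
      refine hcancel (fun A B => A * B) one_mul (fun A B C => mul_assoc A B C) _ _ ?_
      have : (rep k * U e * T ^ (n : ℕ)).1 = (rep k * U e' * T ^ (n : ℕ)).1 := hq
      rwa [mul_assoc (rep k), mul_assoc (rep k), Prod.fst_mul (rep k), Prod.fst_mul (rep k)] at this
    have h2 : (U e).1 = (U e').1 := by
      have := congrArg (· * (T ^ (15 - (n : ℕ))).1) h1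
      simp only [← Prod.fst_mul, mul_assoc, ← pow_add, Nat.add_sub_cancel' n.isLt.le, T_pow, mul_one] at this
      exact this
    have hee : e = e' := by
      by_contra hne
      have hU2 : ∀ a b : Fin 64, b.val < a.val → evG (uP a).1 ≠ evG (uP b).1 := by decide +kernel
      rcases lt_or_gt_of_ne (fun h' => hne (Fin.ext h')) with hl' | hl'
      · exact hU2 e' e hl' h2.symm
      · exact hU2 e e' hl' h2
    rw [hee]
  calc 62400 = (Set.range f).ncard := by
        rw [← Nat.card_coe_set_eq, Nat.card_range_of_injective hinj]; simp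
    _ ≤ _ := Set.ncard_le_ncard (Set.range_subset_iff.2 hmem) (card_Γ.1.image _)

theorem fst_bij : Set.InjOn Prod.fst (Γ : Set Mon) ∧ Prod.fst '' (Γ : Set Mon) = Set.range incl := by
  obtain ⟨hfin, hle⟩ := card_Γ
  refine ⟨Set.injOn_of_ncard_image_eq (le_antisymm (Set.ncard_image_le hfin) (hle.trans many)) hfin, ?_⟩
  refine Set.eq_of_subset_of_ncard_le (Set.image_subset_iff.2 Γ_fst_sub) ?_ (Set.finite_range _)
  rw [← Nat.card_coe_set_eq, Nat.card_range_of_injective incl_injective, card_G]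
  exact many

theorem lift_exists (g : ↥(Cfsg.SU 3 K16 4)) : ∃ x ∈ Γ, x.1 = incl g := by
  have : incl g ∈ Prod.fst '' (Γ : Set Mon) := by rw [fst_bij.2]; exact ⟨g, rfl⟩
  obtain ⟨x, hx, e⟩ := this
  exact ⟨x, hx, e⟩

/-- The representation. -/
noncomputable def rho : ↥(Cfsg.SU 3 K16 4) →* Matrix (Fin 12) (Fin 12) (ZMod 5) where
  toFun g := (lift_exists g).choose.2
  map_one' := by
    obtain ⟨h1, h2⟩ := (lift_exists 1).choose_spec
    rw [fst_bij.1 h1 Γ.one_mem (h2.trans (map_one incl))]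
    rfl
  map_mul' a b := by
    obtain ⟨h1, h2⟩ := (lift_exists (a * b)).choose_spec
    obtain ⟨a1, a2⟩ := (lift_exists a).choose_spec
    obtain ⟨b1, b2⟩ := (lift_exists b).choose_spec
    rw [fst_bij.1 h1 (Γ.mul_mem a1 b1) (h2.trans ((map_mul incl a b).trans (congrArg₂ (· * ·) a2.symm b2.symm)))]
    rfl

theorem rho_eq {g : ↥(Cfsg.SU 3 K16 4)} {x : Mon} (hx : x ∈ Γ) (e : x.1 = incl g) : rho g = x.2 := by
  obtain ⟨h1, h2⟩ := (lift_exists g).choose_spec
  show (lift_exists g).choose.2 = x.2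
  rw [fst_bij.1 h1 hx (h2.trans e.symm)]

theorem order_of_matrix {a : List (List ℕ)} {x : Mon} (hx : x ∈ Γ) (e : x.1 = evG a) :
    ∃ g : ↥(Cfsg.SU 3 K16 4), incl g = evG a ∧ ∀ n, (g ^ n = 1 ↔ evG (powG a n) = 1) := by
  obtain ⟨g, hg⟩ := Γ_fst_sub x hx
  refine ⟨g, hg.trans e, fun n => ?_⟩
  have h : evG (powG a n) = incl (g ^ n) := by
    rw [map_pow, hg, e]
    induction n with
    | zero => rw [pow_zero, ← Prod.fst_one (M := Matrix (Fin 3) (Fin 3) K16) (N := Matrix (Fin 12) (Fin 12) (ZMod 5)),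
        ← ev_one]; rfl
    | succ n ih => rw [powG, evG_mul, ih, pow_succ]
  rw [h, ← incl_injective.eq_iff, map_one]

theorem exists_ten_fifteen :
    (∃ g : ↥(Cfsg.SU 3 K16 4), orderOf g = 10) ∧ ∃ g : ↥(Cfsg.SU 3 K16 4), orderOf g = 15 := by
  have hU1 : U 1 ∈ Γ := UM_le (mem_UM_iff.2 ⟨1, by omega, rfl⟩)
  refine ⟨?_, ?_⟩
  · obtain ⟨g, -, hg⟩ := order_of_matrix (a := dG) (x := U 1 * ev (tP 3))
      (Γ.mul_mem hU1 (tP_eq 3 (by omega) ▸ Γ.pow_mem T_mem 3)) (evG_mul _ _).symm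
    refine ⟨g, (orderOf_eq_iff (by omega)).2 ⟨(hg 10).2 (by decide +kernel), fun m hm h0 h => ?_⟩⟩
    have h1 := (hg m).1 h
    interval_cases m <;> exact absurd h1 (by decide +kernel)
  · obtain ⟨g, -, hg⟩ := order_of_matrix (a := (tP 1).1) (x := T) T_mem rfl
    refine ⟨g, (orderOf_eq_iff (by omega)).2 ⟨(hg 15).2 (by decide +kernel), fun m hm h0 h => ?_⟩⟩
    have h1 := (hg m).1 h
    interval_cases m <;> exact absurd h1 (by decide +kernel)

theorem exists_thirteen : ∃ c : ↥(Cfsg.SU 3 K16 4), orderOf c = 13 ∧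
    ∑ n ∈ Finset.range 13, rho c ^ n = 0 := by
  have hx : ev cP ∈ Γ := by
    rw [cP, ev_mulP, ev_mulP]
    exact Γ.mul_mem (Γ.mul_mem (UM_le (mem_UM_iff.2 ⟨1, by omega, rfl⟩)) (tP_eq 2 (by omega) ▸ Γ.pow_mem T_mem 2)) W_mem
  obtain ⟨c, hc, hg⟩ := order_of_matrix hx rfl
  haveI : Fact (Nat.Prime 13) := ⟨by norm_num⟩
  refine ⟨c, orderOf_eq_prime ((hg 13).2 (by decide +kernel)) ?_, ?_⟩
  · intro h
    have h1 : evG cP.1 = 1 := by rw [← hc, h, map_one]
    exact absurd h1 (by decide +kernel)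
  · have hr : rho c = evR cP.2 := rho_eq hx hc.symm
    have h := check_cpow
    rw [Bool.and_eq_true] at h
    have hp : ∀ n ≤ 12, evR (cPow n) = rho c ^ n := by
      intro n hn
      induction n with
      | zero =>
        rw [pow_zero, eq_of_beq h.1, ← Prod.snd_one (M := Matrix (Fin 3) (Fin 3) K16) (N := Matrix (Fin 12) (Fin 12) (ZMod 5)),
          ← ev_one]
        rfl
      | succ n ih =>
        rw [← eq_of_beq (range_all h.2 (by omega : n < 12)), evR_mul, ih (by omega), pow_succ, hr]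
    ext i j
    have e := eq_of_beq (range_all (range_all check_fpf i.isLt) j.isLt)
    have e' := congrArg (Nat.cast : ℕ → ZMod 5) e
    rw [ZMod.natCast_mod, map_foldTo (· + ·) (Nat.cast : ℕ → ZMod 5) Nat.cast_zero Nat.cast_add] at e'
    rw [Matrix.sum_apply, Matrix.zero_apply]
    refine (Finset.sum_congr rfl fun n hn => ?_).trans (e'.trans Nat.cast_zero)
    rw [← hp n (by have := Finset.mem_range.1 hn; omega)]
    rfl

end Cfsg.Agent.U34
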