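import Cfsg.Agent.Lib.U34.Field

/-!
# Pairs of matrices as lists of numerals
-/

set_option autoImplicit false

namespace Cfsg.Agent.U34

/-- An iterated operation over `0, …, n - 1`. -/
def foldTo (op : ℕ → ℕ → ℕ) : ℕ → (ℕ → ℕ) → ℕ
  | 0, _ => 0
  | n + 1, f => op (foldTo op n f) (f n)

theorem map_foldTo {R : Type*} [AddCommMonoid R] (op : ℕ → ℕ → ℕ) (φ : ℕ → R) (h0 : φ 0 = 0)
    (h : ∀ a b, φ (op a b) = φ a + φ b) (n : ℕ) (f : ℕ → ℕ) :
    φ (foldTo op n f) = ∑ k ∈ Finset.range n, φ (f k) := by
  induction n with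
  | zero => simpa [foldTo] using h0
  | succ n ih => rw [foldTo, h, ih, Finset.sum_range_succ]

/-- The entry of a matrix given by lists. -/
def ent (A : List (List ℕ)) (i j : ℕ) : ℕ := (A.getD i []).getD j 0

/-- A matrix given by its entries. -/
def tab (n : ℕ) (f : ℕ → ℕ → ℕ) : List (List ℕ) :=
  (List.range n).map fun i => (List.range n).map fun j => f i j

theorem ent_tab {n : ℕ} (f : ℕ → ℕ → ℕ) {i j : ℕ} (hi : i < n) (hj : j < n) : ent (tab n f) i j = f i j := by
  simp [ent, tab, List.getD_eq_getElem?_getD, hi, hj]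

/-- Product of the matrices over sixteen elements. -/
def mulG (A B : List (List ℕ)) : List (List ℕ) :=
  (List.range 3).map fun i =>
    let r := A.getD i []
    (List.range 3).map fun j => foldTo addK 3 fun k => mulK (r.getD k 0) ((B.getD k []).getD j 0)

/-- Product of the matrices over five elements. -/
def mulR (A B : List (List ℕ)) : List (List ℕ) :=
  (List.range 12).map fun i =>
    let r := A.getD i []
    (List.range 12).map fun j => foldTo (· + ·) 12 (fun k => r.getD k 0 * (B.getD k []).getD j 0) % 5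

/-- A pair of matrices. -/
abbrev Raw := List (List ℕ) × List (List ℕ)

/-- Product of pairs. -/
def mulP (a b : Raw) : Raw := (mulG a.1 b.1, mulR a.2 b.2)

/-- The matrix over sixteen elements. -/
def evG (A : List (List ℕ)) : Matrix (Fin 3) (Fin 3) K16 := Matrix.of fun i j => ofNatK (ent A i j)

/-- The matrix over five elements. -/
def evR (A : List (List ℕ)) : Matrix (Fin 12) (Fin 12) (ZMod 5) := Matrix.of fun i j => ((ent A i j : ℕ) : ZMod 5)

/-- The monoid of pairs of matrices. -/
abbrev Mon := Matrix (Fin 3) (Fin 3) K16 × Matrix (Fin 12) (Fin 12) (ZMod 5)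

/-- The pair of matrices. -/
def ev (a : Raw) : Mon := (evG a.1, evR a.2)

theorem evG_mul (A B : List (List ℕ)) : evG (mulG A B) = evG A * evG B := by
  ext i j
  rw [Matrix.mul_apply]
  show ofNatK (ent (tab 3 fun i j => foldTo addK 3 fun k => mulK (ent A i k) (ent B k j)) i j) = _
  rw [ent_tab _ i.isLt j.isLt, map_foldTo addK ofNatK ofNatK_zero ofNatK_add,
    Finset.sum_range (fun k => ofNatK (mulK (ent A i k) (ent B k j)))]
  exact Finset.sum_congr rfl fun k _ => ofNatK_mul _ _

theorem evR_mul (A B : List (List ℕ)) : evR (mulR A B) = evR A * evR B := by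
  ext i j
  rw [Matrix.mul_apply]
  show ((ent (tab 12 fun i j => foldTo (· + ·) 12 (fun k => ent A i k * ent B k j) % 5) i j : ℕ) : ZMod 5) = _
  rw [ent_tab _ i.isLt j.isLt, ZMod.natCast_mod, map_foldTo (· + ·) (Nat.cast : ℕ → ZMod 5) Nat.cast_zero Nat.cast_add,
    Finset.sum_range (fun k => ((ent A i k * ent B k j : ℕ) : ZMod 5))]
  exact Finset.sum_congr rfl fun k _ => Nat.cast_mul _ _

theorem ev_mulP (a b : Raw) : ev (mulP a b) = ev a * ev b := Prod.ext (evG_mul _ _) (evR_mul _ _)

end Cfsg.Agent.U34
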